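import Groth.Agent.EtLim45.StalkRpush
import Groth.Agent.PBC51.TorsionAcyclic
import Groth.Agent.Henz21.EtAcyc.Comp
import Groth.Agent.Cons51.GabberEfface

/-!
Vanishing of cohomology after base change to strictly henselian rings.
-/

set_option autoImplicit false
set_option backward.isDefEq.respectTransparency.types false
set_option linter.unusedSectionVars false
universe u

open CategoryTheory CategoryTheory.Limits AlgebraicGeometry Opposite IsLocalRing
open Groth.Agent.Cons51

namespace Groth.Agent.PBC51.Van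

variable {X Y Z : Scheme.{u}}

/-- Cohomology in degree `n` vanishes. -/
abbrev Vanish (X : Scheme.{u}) (F : EtCoh.Ab X) (n : ℕ) : Prop := Subsingleton (EtCoh.H X F n)

theorem vanish_iso {F G : EtCoh.Ab X} (e : F ≅ G) {n : ℕ} (h : Vanish X F n) : Vanish X G n :=
  subsingleton_H_of_iso e n

/-- Vanishing of iterated inverse images. -/
theorem vanish_comp {P : Scheme.{u}} (g : P ⟶ X) (k : X ⟶ Y) {h : P ⟶ Y} (w : g ≫ k = h) (F : EtCoh.Ab Y)
    (n : ℕ) : Vanish P ((EtCoh.pull g).obj ((EtCoh.pull k).obj F)) n ↔ Vanish P ((EtCoh.pull h).obj F) n :=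
  let e := ((EtCore.pullComp g k).symm ≪≫ EtCore.pullCongr w).app F
  ⟨vanish_iso e, vanish_iso e.symm⟩

/-- Vanishing passes along universal homeomorphisms. -/
theorem vanish_uh (f : X ⟶ Y) [IsIntegralHom f] [UniversallyInjective f] [Surjective f] (F : EtCoh.Ab Y) (n : ℕ) :
    Vanish X ((EtCoh.pull f).obj F) n ↔ Vanish Y F n :=
  have := Unr55.EtSh.preservesFiniteLimits_pull f
  have hb := EtCore45.Hpull_bijective_uh f F n
  ⟨fun _ => hb.1.subsingleton, fun _ => hb.2.subsingleton⟩

theorem vanish_ofIso (e : X ⟶ Y) [IsIso e] (F : EtCoh.Ab Y) (n : ℕ) :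
    Vanish X ((EtCoh.pull e).obj F) n ↔ Vanish Y F n :=
  vanish_uh e F n

/-- Vanishing does not depend on the choice of fibre product. -/
theorem vanish_isPullback {P Q S T : Scheme.{u}} {g' : P ⟶ X} {f' : P ⟶ T} {g'' : Q ⟶ X} {f'' : Q ⟶ T}
    {f : X ⟶ S} {a : T ⟶ S} (h : IsPullback g' f' f a) (h' : IsPullback g'' f'' f a) (F : EtCoh.Ab X) (n : ℕ) :
    Vanish P ((EtCoh.pull g').obj F) n ↔ Vanish Q ((EtCoh.pull g'').obj F) n := by
  let e := h.isoIsPullback _ _ h'
  exact ((vanish_comp e.hom g'' (h.isoIsPullback_hom_fst _ _ h') F n).symm).trans (vanish_ofIso e.hom _ n)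

/-- The strict henselization of the local ring at a point. -/
abbrev SH (Y : Scheme.{u}) (y : Y) : Type u := Henz21.StrictHenselization (Y.presheaf.stalk y)

instance isSepClosed_residueSH (Y : Scheme.{u}) (y : Y) : IsSepClosed (ResidueField (SH Y y)) :=
  (inferInstance : Hensel.IsStrictHenselization (Y.presheaf.stalk y) (SH Y y)).isSepClosure.sep_closed

/-- The morphism from the strict henselization. -/
noncomputable abbrev shTo (Y : Scheme.{u}) (y : Y) : Spec (CommRingCat.of (SH Y y)) ⟶ Y :=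
  Hens2.specOf Y y (SH Y y)

theorem geomPt_default (Y : Scheme.{u}) (y : Y) : Hens2.geomPt Y y (SH Y y) default = y := by
  rw [Hens2.geomPt, Hens2.specOf, Scheme.Hom.comp_apply, Scheme.Hom.comp_apply]
  have e : ∀ x : PrimeSpectrum (ResidueField (SH Y y)),
      PrimeSpectrum.comap (algebraMap (Y.presheaf.stalk y) (SH Y y))
        (PrimeSpectrum.comap (residue (SH Y y)) x) = closedPoint (Y.presheaf.stalk y) := fun x => by
    rw [PrimeSpectrum.comap_residue]
    exact IsLocalRing.comap_closedPoint _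
  exact (congrArg (Y.fromSpecStalk y) (e _)).trans Scheme.fromSpecStalk_closedPoint

section Rpush

variable (f : X ⟶ Y) [QuasiCompact f] [QuasiSeparated f] (F : EtCoh.Ab X) (n : ℕ)

/-- A higher direct image vanishes at a point iff cohomology over the strict henselization does. -/
theorem subsingleton_stalk_Rpush_iff (y : Y) :
    Subsingleton ((EtCoh.stalk (Hens2.geomPt Y y (SH Y y))).obj ((EtCoh.Rpush f n).obj F) : AddCommGrpCat.{u + 1}) ↔
      Vanish _ ((EtCoh.pull (pullback.fst f (shTo Y y))).obj F) n := by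
  obtain ⟨e⟩ := EtLim45.nonempty_stalk_Rpush_sh f y (SH Y y) n
  let e' := (e.app F).addCommGroupIsoToAddEquiv
  exact ⟨fun h => @Function.Injective.subsingleton _ _ _ e'.symm.injective h,
    fun h => @Function.Injective.subsingleton _ _ _ e'.injective h⟩

/-- Higher direct images vanish when cohomology over all strict henselizations does. -/
theorem isZero_Rpush_of_vanish (h : ∀ y, Vanish _ ((EtCoh.pull (pullback.fst f (shTo Y y))).obj F) n) :
    IsZero ((EtCoh.Rpush f n).obj F) := by
  refine EtCore45.isZero_of_stalks _ fun K _ _ η => ?_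
  have := (subsingleton_stalk_Rpush_iff f F n (η default)).2 (h _)
  have := subsingleton_stalk_of_eq ((EtCoh.Rpush f n).obj F) (Hens2.geomPt Y _ (SH Y (η default))) η
    (geomPt_default Y _)
  exact AddCommGrpCat.isZero_of_subsingleton _

theorem vanish_of_isZero_Rpush (h : IsZero ((EtCoh.Rpush f n).obj F)) (y : Y) :
    Vanish _ ((EtCoh.pull (pullback.fst f (shTo Y y))).obj F) n :=
  (subsingleton_stalk_Rpush_iff f F n y).1
    (AddCommGrpCat.subsingleton_of_isZero (Functor.map_isZero _ h))

end Rpush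

/-- Cohomology of torsion sheaves acyclic on qcqs objects vanishes over every strictly henselian base. -/
def Good {X Y : Scheme.{u}} (f : X ⟶ Y) : Prop :=
  ∀ (T : EtCoh.Ab X), EtCoh.IsTorsion T → QAcyclic T →
    ∀ (A : Type u) [CommRing A] [HenselianLocalRing A] [IsSepClosed (ResidueField A)]
      (a : Spec (CommRingCat.of A) ⟶ Y) (n : ℕ),
      Vanish _ ((EtCoh.pull (pullback.fst f a)).obj T) (n + 1)

theorem Good.vanish {f : X ⟶ Y} (hf : Good f) {T : EtCoh.Ab X} (hT : EtCoh.IsTorsion T) (hq : QAcyclic T)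
    {A : Type u} [CommRing A] [HenselianLocalRing A] [IsSepClosed (ResidueField A)]
    {a : Spec (CommRingCat.of A) ⟶ Y} {P : Scheme.{u}} {g' : P ⟶ X} {f' : P ⟶ Spec (CommRingCat.of A)}
    (h : IsPullback g' f' f a) (n : ℕ) : Vanish P ((EtCoh.pull g').obj T) (n + 1) :=
  (vanish_isPullback h (IsPullback.of_hasPullback f a) T (n + 1)).2 (hf T hT hq A a n)

/-- Higher direct images of a base change vanish. -/
theorem Good.isZero_Rpush {f : X ⟶ Y} (hf : Good f) {T : EtCoh.Ab X} (hT : EtCoh.IsTorsion T) (hq : QAcyclic T)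
    {X' Y' : Scheme.{u}} {g' : X' ⟶ X} {f' : X' ⟶ Y'} {g : Y' ⟶ Y} (h : IsPullback g' f' f g)
    [QuasiCompact f'] [QuasiSeparated f'] (n : ℕ) :
    IsZero ((EtCoh.Rpush f' (n + 1)).obj ((EtCoh.pull g').obj T)) :=
  isZero_Rpush_of_vanish f' _ _ fun y =>
    (vanish_comp _ g' rfl T _).2
      (hf.vanish hT hq ((IsPullback.of_hasPullback f' (shTo Y' y)).paste_horiz h) n)

end Groth.Agent.PBC51.Van
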