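import Groth.Agent.PBC51.Van.Points
import Groth.Agent.EtLim45.PullSys
import Groth.Agent.LimTop61.FgSubalgLimit

/-!
Vanishing on geometric fibres propagates to larger separably closed fields.
-/

set_option autoImplicit false
set_option backward.isDefEq.respectTransparency.types false
set_option linter.unusedSectionVars false
universe u

open CategoryTheory CategoryTheory.Limits AlgebraicGeometry Opposite IsLocalRing
open Groth.Agent.Unr55.EtSh

namespace Groth.Agent.PBC51.Van

variable {X Y : Scheme.{u}}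

/-- Higher cohomology over a strictly henselian base vanishes iff it does on the closed fibre. -/
def CF (f : X ⟶ Y) : Prop :=
  ∀ (F : EtCoh.Ab X), EtCoh.IsTorsion F →
    ∀ (A : Type u) [CommRing A] [HenselianLocalRing A] [IsSepClosed (ResidueField A)]
      (a : Spec (CommRingCat.of A) ⟶ Y) (n : ℕ),
      Vanish _ ((EtCoh.pull (pullback.fst f a)).obj F) (n + 1) ↔
        Vanish _ ((EtCoh.pull (pullback.fst f (closedPt A ≫ a))).obj F) (n + 1)

theorem hpull_eq_zero_of_factor {P V W : Scheme.{u}} (u : P ⟶ V) (v : V ⟶ W) (g : P ⟶ W) (hg : u ≫ v = g)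
    [PreservesFiniteLimits (EtCoh.pull g)] (G : EtCoh.Ab W) (q : ℕ) (x : EtCoh.H W G q)
    (h : Vanish V ((EtCoh.pull v).obj G) q) : EtCore.Hpull g G q x = 0 := by
  subst hg
  have := preservesFiniteLimits_pull u
  have := preservesFiniteLimits_pull v
  obtain ⟨Φ, hΦ, hΦe⟩ := Henz21.EtAcycComp.exists_Hpull_comp u v G q
  rw [← map_zero (EtCore.Hpull (u ≫ v) G q)]
  refine hΦ.1 ?_
  rw [← hΦe, ← hΦe, h.elim (EtCore.Hpull v G q x) (EtCore.Hpull v G q 0)]

theorem hpullVia_eq_zero {P V W Z : Scheme.{u}} (u : P ⟶ V) (v : V ⟶ W) (g : P ⟶ W) (hg : u ≫ v = g)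
    (t : W ⟶ Z) (t₀ : P ⟶ Z) (w : g ≫ t = t₀) [PreservesFiniteLimits (EtCoh.pull g)] (F : EtCoh.Ab Z) (q : ℕ)
    (x : EtCoh.H W ((EtCoh.pull t).obj F) q) (h : Vanish V ((EtCoh.pull v).obj ((EtCoh.pull t).obj F)) q) :
    EtCore.HpullVia g t t₀ w F q x = 0 := by
  have key := hpull_eq_zero_of_factor u v g hg _ q x h
  show (((EtCoh.HF P q).map (((EtCore.pullComp g t).symm ≪≫ EtCore.pullCongr w).app F).hom).hom)
    (EtCore.Hpull g ((EtCoh.pull t).obj F) q x) = 0
  rw [key]
  exact map_zero _

theorem vanish_congr (f : X ⟶ Y) (F : EtCoh.Ab X) {T : Scheme.{u}} {a a' : T ⟶ Y} (h : a = a') (q : ℕ) :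
    Vanish _ ((EtCoh.pull (pullback.fst f a)).obj F) q ↔ Vanish _ ((EtCoh.pull (pullback.fst f a')).obj F) q := by
  subst h
  rfl

/-- Over an algebraically closed field every sheaf `R^q` of the fibre family vanishes. -/
theorem isZero_Rpush_family (f : X ⟶ Y) [IsProper f] (hf : CF f) (F : EtCoh.Ab X) (hF : EtCoh.IsTorsion F)
    {k : Type u} [Field k] [IsAlgClosed k] (ξ : Spec (CommRingCat.of k) ⟶ Y) (n : ℕ)
    (h : Vanish _ ((EtCoh.pull (pullback.fst f ξ)).obj F) (n + 1))
    {B : Scheme.{u}} (s : B ⟶ Spec (CommRingCat.of k)) [LocallyOfFiniteType s] :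
    IsZero ((EtCoh.Rpush (pullback.snd f (s ≫ ξ)) (n + 1)).obj ((EtCoh.pull (pullback.fst f (s ≫ ξ))).obj F)) := by
  let t := s ≫ ξ
  let fB := pullback.snd f t
  have : JacobsonSpace B := LocallyOfFiniteType.jacobsonSpace s
  refine isZero_of_closedPoints _ fun K _ _ η hη => ?_
  let p := pointOfClosedPoint s (η default) hη
  obtain ⟨y, τ, hτ⟩ := exists_geomPt_hom p
  have hy : y = η default := by
    rw [← geomPt_default B y, ← pointOfClosedPoint_apply s (η default) hη default]
    show _ = p default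
    rw [← hτ, Scheme.Hom.comp_apply]
    exact congrArg (Hens2.geomPt B y (SH B y)) (Subsingleton.elim (α := PrimeSpectrum (ResidueField (SH B y))) _ _)
  let R := SH B y
  let ρ := Hens2.geomPt B y R ≫ s
  obtain ⟨ι, hι⟩ := Spec.map_surjective ρ
  have hid : Spec.map (CommRingCat.ofHom τ) ≫ ρ = 𝟙 _ := by
    rw [← Category.assoc, hτ]
    exact pointOfClosedPoint_comp s _ hη
  have hiso : IsIso ρ := by
    have hsurj : Function.Surjective ι.hom := fun r => by
      refine ⟨τ r, τ.injective ?_⟩
      rw [← hι, ← Spec.map_comp, ← Spec.map_id, Spec.map_inj] at hid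
      exact ConcreteCategory.congr_hom hid (τ r)
    have : IsIso ι := (ConcreteCategory.isIso_iff_bijective ι).2 ⟨RingHom.injective ι.hom, hsurj⟩
    rw [← hι]
    infer_instance
  have h1 : Vanish _ ((EtCoh.pull (pullback.fst f (ρ ≫ ξ))).obj F) (n + 1) := by
    let e := pullback.map f (ρ ≫ ξ) f ξ (𝟙 X) ρ (𝟙 Y) (by simp) (by simp)
    exact (vanish_comp e (pullback.fst f ξ) ((pullback.lift_fst _ _ _).trans (Category.comp_id _)) F _).1
      ((vanish_ofIso e _ _).2 h)
  have h2 : Vanish _ ((EtCoh.pull (pullback.fst f (shTo B y ≫ t))).obj F) (n + 1) := by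
    refine (hf F hF R (shTo B y ≫ t) n).2 ?_
    have e : closedPt R ≫ shTo B y ≫ t = ρ ≫ ξ := by simp [ρ, t]
    exact (vanish_congr f F e _).2 h1
  have h3 : Vanish _ ((EtCoh.pull (pullback.fst fB (shTo B y))).obj ((EtCoh.pull (pullback.fst f t)).obj F)) (n + 1) :=
    (vanish_comp _ (pullback.fst f t) rfl F _).2
      ((vanish_isPullback ((IsPullback.of_hasPullback fB (shTo B y)).paste_horiz (IsPullback.of_hasPullback f t))
        (IsPullback.of_hasPullback f (shTo B y ≫ t)) F _).2 h2)
  have := (subsingleton_stalk_Rpush_iff fB _ (n + 1) y).2 h3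
  exact Cons51.subsingleton_stalk_of_eq _ (Hens2.geomPt B y R) η ((geomPt_default B y).trans hy)

/-- Vanishing propagates from an algebraically closed field to an algebraically closed extension. -/
theorem vanish_algClosed (f : X ⟶ Y) [IsProper f] (hf : CF f) (F : EtCoh.Ab X) (hF : EtCoh.IsTorsion F)
    {k K : Type u} [Field k] [IsAlgClosed k] [Field K] [IsSepClosed K] (i : k →+* K)
    (ξ : Spec (CommRingCat.of k) ⟶ Y) (n : ℕ)
    (h : Vanish _ ((EtCoh.pull (pullback.fst f ξ)).obj F) (n + 1)) :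
    Vanish _ ((EtCoh.pull (pullback.fst f (Spec.map (CommRingCat.ofHom i) ≫ ξ))).obj F) (n + 1) := by
  let : Algebra (CommRingCat.of k) (CommRingCat.of K) := i.toAlgebra
  let Bs := LimTop61.subalgSpec (CommRingCat.of k) (CommRingCat.of K)
  let cB := LimTop61.subalgCone (CommRingCat.of k) (CommRingCat.of K)
  let s : ∀ j : LimTop61.FgSubalg (CommRingCat.of k) (CommRingCat.of K), Bs.obj (op j) ⟶ Spec (CommRingCat.of k) :=
    fun j => Spec.map (CommRingCat.ofHom (algebraMap k j.1))
  have hs : ∀ j l (hjl : j ≤ l), Bs.map (homOfLE hjl).op ≫ s j = s l := fun j l hjl => by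
    refine (Spec.map_comp _ _).symm.trans ?_
    rfl
  have hc : ∀ j, cB.π.app (op j) ≫ s j = Spec.map (CommRingCat.ofHom i) := fun j => by
    refine (Spec.map_comp _ _).symm.trans ?_
    rfl
  let t : ∀ j, Bs.obj (op j) ⟶ Y := fun j => s j ≫ ξ
  let t₀ : cB.pt ⟶ Y := Spec.map (CommRingCat.ofHom i) ≫ ξ
  have ht : ∀ j l (hjl : j ≤ l), Bs.map (homOfLE hjl).op ≫ t j = t l := fun j l hjl => by
    rw [← Category.assoc, hs]
  have hct : ∀ j, cB.π.app (op j) ≫ t j = t₀ := fun j => by
    rw [← Category.assoc, hc]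
    rfl
  let Ys : (LimTop61.FgSubalg (CommRingCat.of k) (CommRingCat.of K))ᵒᵖ ⥤ Scheme.{u} :=
    { obj := fun a => pullback f (t a.unop)
      map := fun {a b} m => pullback.lift (pullback.fst f (t a.unop)) (pullback.snd f (t a.unop) ≫ Bs.map m)
        (by rw [pullback.condition, Category.assoc]
            exact congrArg (_ ≫ ·) (ht b.unop a.unop (leOfHom m.unop)).symm)
      map_id := fun a => by ext <;> simp
      map_comp := fun {a b c} g g' => by
        refine pullback.hom_ext ((pullback.lift_fst _ _ _).trans ?_) ((pullback.lift_snd _ _ _).trans ?_)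
        · refine ((Category.assoc _ _ _).trans ?_).symm
          exact (congrArg (_ ≫ ·) (pullback.lift_fst _ _ _)).trans (pullback.lift_fst _ _ _)
        · refine ((Category.assoc _ _ _).trans ?_).symm
          refine (congrArg (_ ≫ ·) (pullback.lift_snd _ _ _)).trans ?_
          refine (Category.assoc _ _ _).symm.trans ((congrArg (· ≫ Bs.map g') (pullback.lift_snd _ _ _)).trans ?_)
          exact (Category.assoc _ _ _).trans (congrArg (_ ≫ ·) (Bs.map_comp g g').symm) }
  let cY : Cone Ys :=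
    { pt := pullback f t₀
      π :=
        { app := fun a => pullback.lift (pullback.fst f t₀) (pullback.snd f t₀ ≫ cB.π.app a)
            (by rw [pullback.condition, Category.assoc]; exact congrArg (_ ≫ ·) (hct a.unop).symm)
          naturality := fun a b m => by
            refine (Category.id_comp _).trans (pullback.hom_ext ((pullback.lift_fst _ _ _).trans ?_)
              ((pullback.lift_snd _ _ _).trans ?_))
            · refine ((Category.assoc _ _ _).trans ?_).symm
              exact (congrArg (_ ≫ ·) (pullback.lift_fst _ _ _)).trans (pullback.lift_fst _ _ _)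
            · refine ((Category.assoc _ _ _).trans ?_).symm
              refine (congrArg (_ ≫ ·) (pullback.lift_snd _ _ _)).trans ?_
              refine (Category.assoc _ _ _).symm.trans ((congrArg (· ≫ Bs.map m) (pullback.lift_snd _ _ _)).trans ?_)
              exact (Category.assoc _ _ _).trans (congrArg (_ ≫ ·) (cB.w m)) } }
  have hpb : ∀ a b (m : a ⟶ b), IsPullback (Ys.map m) (pullback.snd f (t a.unop)) (pullback.snd f (t b.unop)) (Bs.map m) := by
    intro a b m
    refine IsPullback.of_right (h₁₂ := pullback.fst f (t b.unop)) (h₂₂ := t b.unop) (v₁₃ := f) ?_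
      (pullback.lift_snd _ _ _) (IsPullback.of_hasPullback f (t b.unop))
    have e1 : Ys.map m ≫ pullback.fst f (t b.unop) = pullback.fst f (t a.unop) := pullback.lift_fst _ _ _
    have e2 : Bs.map m ≫ t b.unop = t a.unop := ht b.unop a.unop (leOfHom m.unop)
    rw [e1, e2]
    exact IsPullback.of_hasPullback f (t a.unop)
  have : IsDirected (LimTop61.FgSubalg (CommRingCat.of k) (CommRingCat.of K)) (· ≤ ·) :=
    ⟨fun S T => ⟨⟨S.1 ⊔ T.1, S.2.sup T.2⟩, le_sup_left (a := S.1), le_sup_right (a := S.1)⟩⟩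
  have : Nonempty (LimTop61.FgSubalg (CommRingCat.of k) (CommRingCat.of K)) := ⟨⟨⊥, Subalgebra.fg_bot⟩⟩
  have : IsConnected (LimTop61.FgSubalg (CommRingCat.of k) (CommRingCat.of K)) := IsFiltered.isConnected _
  have hcY : IsLimit cY := by
    refine isLimitOfIsPullbackOfIsConnected
      ({ app := fun a => pullback.snd f (t a.unop)
         naturality := fun a b m => (hpb a b m).w } : Ys ⟶ Bs) cY cB
      { hom := pullback.snd f t₀
        w := fun a => (pullback.lift_snd _ _ _).symm } (fun a => ?_) (LimTop61.isLimitSubalgCone _ _)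
    refine IsPullback.of_right (h₁₂ := pullback.fst f (t a.unop)) (h₂₂ := t a.unop) (v₁₃ := f) ?_
      (pullback.lift_snd _ _ _) (IsPullback.of_hasPullback f (t a.unop))
    have e1 : cY.π.app a ≫ pullback.fst f (t a.unop) = pullback.fst f t₀ := pullback.lift_fst _ _ _
    have e2 : cB.π.app a ≫ t a.unop = t₀ := hct a.unop
    rw [e1, e2]
    exact IsPullback.of_hasPullback f t₀
  have : ∀ a, CompactSpace (Ys.obj a) := fun a =>
    QuasiCompact.compactSpace_of_compactSpace (pullback.snd f (t a.unop))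
  have : ∀ a, QuasiSeparatedSpace (Ys.obj a) := fun a =>
    quasiSeparatedSpace_of_quasiSeparated (pullback.snd f (t a.unop))
  have : ∀ a b (m : a ⟶ b), IsAffineHom (Ys.map m) := fun a b m =>
    MorphismProperty.of_isPullback (P := @IsAffineHom) (hpb a b m).flip inferInstance
  have : ∀ a, PreservesFiniteLimits (EtCoh.pull (cY.π.app a)) := fun a => preservesFiniteLimits_pull _
  have : ∀ ⦃a b⦄ (m : a ⟶ b), PreservesFiniteLimits (EtCoh.pull (Ys.map m)) := fun a b m => preservesFiniteLimits_pull _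
  refine subsingleton_of_forall_eq 0 fun e => ?_
  obtain ⟨j, x, rfl⟩ := (EtLim45.H_limit_gen Ys (fun j => pullback.fst f (t j))
    (fun a b hab => pullback.lift_fst _ _ _) F cY (pullback.fst f t₀) (fun j => pullback.lift_fst _ _ _) hcY (n + 1)).1 e
  let G := (EtCoh.pull (pullback.fst f (t j))).obj F
  let fB := pullback.snd f (t j)
  have : LocallyOfFiniteType (s j) := by
    have : Algebra.FiniteType k j.1 := (Subalgebra.fg_iff_finiteType _).1 j.2
    exact HasRingHomProperty.Spec_iff.2 (RingHom.finiteType_algebraMap.2 this)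
  have hz := isZero_Rpush_family f hf F hF ξ n h (s j)
  let η : Spec (CommRingCat.of K) ⟶ Bs.obj (op j) := cB.π.app (op j)
  obtain ⟨y, τ, hτ⟩ := exists_geomPt_hom η
  have hv := vanish_of_isZero_Rpush fB G (n + 1) hz y
  let w : cB.pt ⟶ Spec (CommRingCat.of (SH (Bs.obj (op j)) y)) :=
    Spec.map (CommRingCat.ofHom τ) ≫ closedPt _
  have hw : w ≫ shTo (Bs.obj (op j)) y = η := (Category.assoc _ _ _).trans hτ
  let u : cY.pt ⟶ pullback fB (shTo (Bs.obj (op j)) y) :=
    pullback.lift (cY.π.app (op j)) (pullback.snd f t₀ ≫ w) (by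
      rw [Category.assoc, hw]; exact pullback.lift_snd _ _ _)
  exact hpullVia_eq_zero u (pullback.fst fB (shTo (Bs.obj (op j)) y)) (EtLim45.pr cY j)
    (pullback.lift_fst _ _ _) (pullback.fst f (t j)) (pullback.fst f t₀) (pullback.lift_fst _ _ _) F (n + 1) x hv

/-- Vanishing on a geometric fibre is insensitive to purely inseparable extensions. -/
theorem vanish_purelyInsep (f : X ⟶ Y) (F : EtCoh.Ab X) {k K : Type u} [Field k] [Field K] [Algebra k K]
    [IsPurelyInseparable k K] (ξ : Spec (CommRingCat.of k) ⟶ Y) (n : ℕ) :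
    Vanish _ ((EtCoh.pull (pullback.fst f (Spec.map (CommRingCat.ofHom (algebraMap k K)) ≫ ξ))).obj F) n ↔
      Vanish _ ((EtCoh.pull (pullback.fst f ξ)).obj F) n := by
  obtain ⟨hi, hu, hs⟩ := uh_of_isPurelyInseparable (k := k) (K := K)
  let ρ := Spec.map (CommRingCat.ofHom (algebraMap k K))
  let e : pullback f (ρ ≫ ξ) ⟶ pullback f ξ :=
    pullback.lift (pullback.fst _ _) (pullback.snd _ _ ≫ ρ) (by rw [Category.assoc]; exact pullback.condition)
  have h : IsPullback e (pullback.snd f (ρ ≫ ξ)) (pullback.snd f ξ) ρ := by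
    refine IsPullback.of_right (h₁₂ := pullback.fst f ξ) (h₂₂ := ξ) (v₁₃ := f) ?_ (pullback.lift_snd _ _ _)
      (IsPullback.of_hasPullback f ξ)
    rw [show e ≫ pullback.fst f ξ = pullback.fst f (ρ ≫ ξ) from pullback.lift_fst _ _ _]
    exact IsPullback.of_hasPullback f (ρ ≫ ξ)
  have : IsIntegralHom e := MorphismProperty.of_isPullback h.flip hi
  have : UniversallyInjective e := MorphismProperty.of_isPullback h.flip hu
  have : Surjective e := MorphismProperty.of_isPullback h.flip hs
  exact ((vanish_comp e (pullback.fst f ξ) (pullback.lift_fst _ _ _) F n).symm).trans (vanish_uh e _ n)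

/-- Vanishing propagates to separably closed extensions. -/
theorem vanish_sepClosed (f : X ⟶ Y) [IsProper f] (hf : CF f) (F : EtCoh.Ab X) (hF : EtCoh.IsTorsion F)
    {k K : Type u} [Field k] [IsSepClosed k] [Field K] [IsSepClosed K] (i : k →+* K)
    (ξ : Spec (CommRingCat.of k) ⟶ Y) (n : ℕ)
    (h : Vanish _ ((EtCoh.pull (pullback.fst f ξ)).obj F) (n + 1)) :
    Vanish _ ((EtCoh.pull (pullback.fst f (Spec.map (CommRingCat.ofHom i) ≫ ξ))).obj F) (n + 1) := by
  let kb := AlgebraicClosure k
  let Kb := AlgebraicClosure K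
  let : Algebra k Kb := ((algebraMap K Kb).comp i).toAlgebra
  let j : kb →ₐ[k] Kb := IsAlgClosed.lift
  have h1 := (vanish_purelyInsep f F (k := k) (K := kb) ξ (n + 1)).2 h
  have h2 := vanish_algClosed f hf F hF (K := Kb) j.toRingHom _ n h1
  refine (vanish_purelyInsep f F (k := K) (K := Kb) _ (n + 1)).1 ?_
  rw [← Category.assoc, ← Spec.map_comp] at h2 ⊢
  rwa [show CommRingCat.ofHom (algebraMap k kb) ≫ CommRingCat.ofHom j.toRingHom =
    CommRingCat.ofHom i ≫ CommRingCat.ofHom (algebraMap K Kb) from CommRingCat.hom_ext j.comp_algebraMap] at h2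

/-- Vanishing on closed fibres gives vanishing after all strictly henselian base changes. -/
theorem good_of_cf (f : X ⟶ Y) [IsProper f] (hf : CF f) : Good f := by
  intro T hT hq A _ _ _ a n
  refine (hf T hT A a n).2 ?_
  obtain ⟨y, τ, hτ⟩ := exists_geomPt_hom (closedPt A ≫ a)
  refine (vanish_congr f T hτ _).1 ?_
  refine vanish_sepClosed f hf T hT τ _ n ?_
  exact (hf T hT (SH Y y) (shTo Y y) n).1
    (vanish_of_isZero_Rpush f T (n + 1) (isZero_Rpush_of_qAcyclic f n T hq) y)

end Groth.Agent.PBC51.Van
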