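import Groth.Agent.PBC51.Van.Ops
import Groth.Agent.PBC51.P1.Main
import Groth.Agent.Approx60.Segre

/-!
The projective line over any base: higher cohomology over strictly henselian bases is that of the
closed fibre, hence torsion acyclic sheaves stay acyclic after base change.
-/

set_option autoImplicit false
set_option backward.isDefEq.respectTransparency.types false
set_option linter.unusedSectionVars false
universe u

open CategoryTheory CategoryTheory.Limits AlgebraicGeometry Opposite IsLocalRing
open Groth.Agent.Approx60 Groth.Agent.Unr55.EtSh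

namespace Groth.Agent.PBC51.Van

abbrev Z₀ : Type u := ULift.{u} ℤ

theorem hom_Z₀_ext {R : Type u} [CommRing R] (f g : Z₀.{u} →+* R) : f = g := by
  refine RingHom.ext fun x => ?_
  exact RingHom.congr_fun
    (RingHom.ext_int (f.comp ULift.ringEquiv.symm.toRingHom) (g.comp ULift.ringEquiv.symm.toRingHom)) x.down

/-- The unique map from the lifted integers. -/
noncomputable def castZ (A : Type u) [CommRing A] : Z₀.{u} →+* A :=
  (Int.castRingHom A).comp ULift.ringEquiv.toRingHom

/-- The functions `X_l / X_i` are invertible on the overlaps. -/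
theorem basicOpen_f_eq (R : Type u) [CommRing R] (n : ℕ) (i l : Fin (n + 1)) :
    (CohB1.ProjSpace n R).basicOpen (Segre.f R n i l) = ProjCharts.U R n i ⊓ ProjCharts.U R n l := by
  refine le_antisymm (le_inf (Scheme.basicOpen_le _ _) (Segre.basicOpen_f R n i l)) fun x hx => ?_
  have h := Segre.f_cocycle R n i l i (O := ProjCharts.U R n i ⊓ ProjCharts.U R n l) inf_le_left inf_le_right
  rw [Segre.f_self, map_one] at h
  have hu := IsUnit.of_mul_eq_one _ h.symm
  have := Scheme.basicOpen_of_isUnit _ hu
  rw [Scheme.basicOpen_res] at this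
  exact (this.ge hx).2

section Data

variable (A : Type u) [CommRing A]

/-- The projective line over an affine base. -/
noncomputable abbrev LineA : Scheme.{u} := CohB1.ProjSpaceOver 1 (Spec (CommRingCat.of A))

/-- Its structure map. -/
noncomputable abbrev lineq : LineA A ⟶ Spec (CommRingCat.of A) := CohB1.ProjSpaceOver.toBase 1 _

/-- The projection to the absolute line. -/
noncomputable abbrev linepr : LineA A ⟶ CohB1.ProjSpace 1 Z₀.{u} :=
  pullback.fst (CohB1.ProjSpace.toSpec 1 Z₀.{u}) (specULiftZIsTerminal.from (Spec (CommRingCat.of A)))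

instance : IsAffineHom (linepr A) := MorphismProperty.pullback_fst _ _ inferInstance

/-- The two charts. -/
noncomputable abbrev lineU (i : Fin (1 + 1)) : (LineA A).Opens := linepr A ⁻¹ᵁ ProjCharts.U Z₀.{u} 1 i

/-- The coordinate on a chart. -/
noncomputable abbrev lineCoord (i l : Fin (1 + 1)) : Γ(LineA A, lineU A i) :=
  (linepr A).app (ProjCharts.U Z₀.{u} 1 i) (Segre.f Z₀.{u} 1 i l)

theorem surjective_eval₂_line (i l : Fin (1 + 1)) (hil : l ≠ i) :
    Function.Surjective (Polynomial.eval₂RingHom (P1.cst (lineq A) (lineU A i)) (lineCoord A i l)) := by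
  let ev := Polynomial.eval₂RingHom (P1.cst (lineq A) (lineU A i)) (lineCoord A i l)
  intro x
  suffices x ∈ ev.range from this
  have H := (IsPullback.of_hasPullback (CohB1.ProjSpace.toSpec 1 Z₀.{u})
    (specULiftZIsTerminal.from (Spec (CommRingCat.of A)))).flip
  have := isIso_pushoutSection_of_isAffineOpen H (US := ⊤) (UT := ProjCharts.U Z₀.{u} 1 i) (UX := ⊤)
    (UY := lineU A i) (by simp) (by simp) (by simp; rfl) (isAffineOpen_top _)
    (ProjCharts.isAffineOpen_U _ 1 i) (isAffineOpen_top _)
  refine Segre.eq_top_of_isPushout ((isIso_pushoutSection_iff H (by simp) (by simp) (by simp; rfl)).1 this) _ ?_ ?_ x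
  · intro a
    refine ⟨Polynomial.C ((Scheme.ΓSpecIso (CommRingCat.of A)).hom a), ?_⟩
    show Polynomial.eval₂RingHom _ _ _ = _
    rw [Polynomial.coe_eval₂RingHom, Polynomial.eval₂_C]
    show ((lineq A).appLE ⊤ _ _) ((Scheme.ΓSpecIso (CommRingCat.of A)).inv
      ((Scheme.ΓSpecIso (CommRingCat.of A)).hom a)) = _
    rw [Iso.hom_inv_id_apply]
    rfl
  · intro b
    obtain ⟨p, rfl⟩ := ProjCharts.exists_eval₂_eq Z₀.{u} 1 i b
    induction p using MvPolynomial.induction_on with
    | C r =>
      rw [MvPolynomial.eval₂_C]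
      refine ⟨Polynomial.C ((castZ A) r), ?_⟩
      show ((Polynomial.eval₂RingHom _ _).comp (Polynomial.C.comp (castZ A))) r = _
      rw [hom_Z₀_ext ((Polynomial.eval₂RingHom _ _).comp (Polynomial.C.comp (castZ A)))
        (((linepr A).appLE (ProjCharts.U Z₀.{u} 1 i) (lineU A i) le_rfl).hom.comp
          (ProjCharts.const (k := Z₀.{u}) (CohB1.ProjSpace 1 Z₀.{u}) (ProjCharts.U Z₀.{u} 1 i)))]
      rfl
    | add p q hp hq =>
      rw [MvPolynomial.eval₂_add, map_add]
      exact add_mem hp hq
    | mul_X p m hp =>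
      rw [MvPolynomial.eval₂_mul, MvPolynomial.eval₂_X, map_mul]
      refine mul_mem hp ?_
      show (linepr A).appLE _ _ _ (Segre.f Z₀.{u} 1 i m) ∈ ev.range
      obtain rfl | rfl : m = i ∨ m = l := by fin_cases m <;> fin_cases i <;> fin_cases l <;> simp at hil ⊢
      · rw [Segre.f_self, map_one]
        exact one_mem _
      · exact ⟨Polynomial.X, by simp [ev, lineCoord, Scheme.Hom.app_eq_appLE]⟩

/-- The standard two-chart structure on the projective line over an affine base. -/
noncomputable def lineData : P1.Data (lineq A) where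
  Y0 := lineU A 0
  Y1 := lineU A 1
  affine0 := (ProjCharts.isAffineOpen_U _ 1 0).preimage _
  affine1 := (ProjCharts.isAffineOpen_U _ 1 1).preimage _
  cover := top_le_iff.1 fun x _ => by
    obtain ⟨j, hj⟩ := ProjCharts.exists_mem_U Z₀.{u} 1 (linepr A x)
    fin_cases j
    · exact Or.inl hj
    · exact Or.inr hj
  t := lineCoord A 0 1
  s := lineCoord A 1 0
  inter0 := by rw [← Scheme.preimage_basicOpen, basicOpen_f_eq]; rfl
  inter1 := by rw [← Scheme.preimage_basicOpen, basicOpen_f_eq, inf_comm]; rfl
  mul_one' := by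
    have h := congrArg ((linepr A).appLE (ProjCharts.U Z₀.{u} 1 0 ⊓ ProjCharts.U Z₀.{u} 1 1)
        (lineU A 0 ⊓ lineU A 1) le_rfl)
      (Segre.f_cocycle Z₀.{u} 1 0 1 0 (O := ProjCharts.U Z₀.{u} 1 0 ⊓ ProjCharts.U Z₀.{u} 1 1) inf_le_left inf_le_right)
    rw [Segre.f_self, map_one, map_one, map_mul] at h
    simp only [← CommRingCat.comp_apply, Scheme.Hom.map_appLE] at h
    simp only [lineCoord, Scheme.Hom.app_eq_appLE, ← CommRingCat.comp_apply, Scheme.Hom.appLE_map]
    exact h.symm
  int0 := fun x => by
    obtain ⟨y, rfl⟩ := surjective_eval₂_line A 0 1 (by decide) x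
    exact RingHom.isIntegralElem_map _
  int1 := fun x => by
    obtain ⟨y, rfl⟩ := surjective_eval₂_line A 1 0 (by decide) x
    exact RingHom.isIntegralElem_map _

end Data

instance isProper_toBase_line (Z : Scheme.{u}) : IsProper (CohB1.ProjSpaceOver.toBase 1 Z) :=
  Segre.isProper_toBase 1 Z

/-- The base change of projective space. -/
theorem isPullback_projSpaceOver (n : ℕ) {S Z : Scheme.{u}} (a : S ⟶ Z) :
    IsPullback (pullback.map (CohB1.ProjSpace.toSpec n Z₀.{u}) (specULiftZIsTerminal.from S)
        (CohB1.ProjSpace.toSpec n Z₀.{u}) (specULiftZIsTerminal.from Z) (𝟙 _) a (𝟙 _) (by simp)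
        (specULiftZIsTerminal.hom_ext _ _))
      (CohB1.ProjSpaceOver.toBase n S) (CohB1.ProjSpaceOver.toBase n Z) a := by
  refine IsPullback.of_right (h₁₂ := pullback.fst _ _) (h₂₂ := specULiftZIsTerminal.from Z)
    (v₁₃ := CohB1.ProjSpace.toSpec n Z₀.{u}) ?_ (pullback.lift_snd _ _ _) (IsPullback.of_hasPullback _ _)
  erw [pullback.lift_fst, Category.comp_id, specULiftZIsTerminal.hom_ext (a ≫ specULiftZIsTerminal.from Z)
    (specULiftZIsTerminal.from S)]
  exact IsPullback.of_hasPullback _ _

/-- Cohomology of torsion sheaves on the projective line over strictly henselian bases. -/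
theorem cf_line (Z : Scheme.{u}) : CF (CohB1.ProjSpaceOver.toBase 1 Z) := by
  intro F hF A _ _ _ a n
  let q := lineq A
  let b := pullback.map (CohB1.ProjSpace.toSpec 1 Z₀.{u}) (specULiftZIsTerminal.from (Spec (CommRingCat.of A)))
    (CohB1.ProjSpace.toSpec 1 Z₀.{u}) (specULiftZIsTerminal.from Z) (𝟙 _) a (𝟙 _) (by simp)
    (specULiftZIsTerminal.hom_ext _ _)
  have hb : IsPullback b q (CohB1.ProjSpaceOver.toBase 1 Z) a := isPullback_projSpaceOver 1 a
  have h0 := IsPullback.of_hasPullback q (closedPt A)
  let i := pullback.fst q (closedPt A)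
  let G := (EtCoh.pull b).obj F
  have : IsClosedImmersion (closedPt A) := IsClosedImmersion.spec_of_surjective _ residue_surjective
  have : IsClosedImmersion i := MorphismProperty.pullback_fst _ _ inferInstance
  have hbij := P1.bijective_H_closedFibre (lineData A) i (pullback.snd _ _) h0 (n + 1) G
    (Cons51.isTorsion_pull b hF)
  refine (vanish_isPullback (IsPullback.of_hasPullback _ a) hb F (n + 1)).trans ?_
  refine Iff.trans ?_ (vanish_isPullback (h0.paste_horiz hb) (IsPullback.of_hasPullback _ _) F (n + 1))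
  refine Iff.trans ?_ (vanish_comp i b rfl F (n + 1))
  refine Iff.trans ⟨fun h => @Function.Surjective.subsingleton _ _ _ h hbij.2,
    fun h => @Function.Injective.subsingleton _ _ _ hbij.1 h⟩
    (vanish_leray i _ (fun q => S3054.result i _ (q + 1) q.succ_pos) (n + 1)).symm

/-- Torsion acyclic sheaves on the projective line stay acyclic after base change. -/
theorem good_line (Z : Scheme.{u}) : Good (CohB1.ProjSpaceOver.toBase 1 Z) :=
  good_of_cf _ (cf_line Z)

end Groth.Agent.PBC51.Van
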