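import Groth.Agent.PBC51.Van.FieldExt
import Groth.Agent.Cons51.ProperBC0
import Groth.Agent.EtCore45.ExtAdjoint
import Groth.Agent.Unr55.Et.StrictHensH
import Groth.Agent.Cons51.TorsionCoh
import Groth.Agent.S3054

/-!
Stability of vanishing: finite morphisms, composition, descent along surjections, locality on the target.
-/

set_option autoImplicit false
set_option backward.isDefEq.respectTransparency.types false
set_option linter.unusedSectionVars false
universe u

open CategoryTheory CategoryTheory.Limits CategoryTheory.Abelian AlgebraicGeometry Opposite IsLocalRing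
open Groth.Agent.Unr55.EtSh Groth.Agent.EtCore45

namespace Groth.Agent.PBC51.Van

variable {X Y Z : Scheme.{u}}

/-- Degeneration of the Leray spectral sequence. -/
theorem vanish_leray (f : X ⟶ Y) (G : EtCoh.Ab X) (h : ∀ q, IsZero ((EtCoh.Rpush f (q + 1)).obj G)) (n : ℕ) :
    Vanish X G n ↔ Vanish Y ((EtCoh.push f).obj G) n := by
  have : PreservesFiniteLimits (EtCoh.pull f) := preservesFiniteLimits_pull f
  have hb := adjTransfer_bijective (EtCoh.pullPushAdj f) (EtCore.pullConst f ℤ).inv n G fun p hp => by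
    obtain ⟨q, rfl⟩ := Nat.exists_eq_add_one.2 hp
    exact h q
  exact ⟨fun _ => hb.1.subsingleton, fun _ => hb.2.subsingleton⟩

/-- Integral and finite morphisms. -/
theorem good_of_isFinite (f : X ⟶ Y) [IsFinite f] : Good f := by
  intro T _ _ A _ _ _ a n
  have : IsFinite (pullback.snd f a) := MorphismProperty.pullback_snd _ _ inferInstance
  refine (vanish_leray (pullback.snd f a) _ (fun q => ?_) (n + 1)).2 (H_subsingleton A _ (n + 1) le_add_self)
  exact S3054.result (pullback.snd f a) _ (q + 1) q.succ_pos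

/-- The comparison of degree zero base change, natural in the sheaf. -/
theorem baseChange0_nat {X' Y' : Scheme.{u}} (f : X ⟶ Y) (g : Y' ⟶ Y) (f' : X' ⟶ Y') (g' : X' ⟶ X)
    (w : g' ≫ f = f' ≫ g) {F G : EtCoh.Ab X} (a : F ⟶ G) :
    (EtCoh.pull g).map ((EtCoh.push f).map a) ≫ EtCoh.baseChange0 f g f' g' w G =
      EtCoh.baseChange0 f g f' g' w F ≫ (EtCoh.push f').map ((EtCoh.pull g').map a) := by
  apply ((EtCoh.pullPushAdj g).homEquiv _ _).injective
  refine ((EtCoh.pullPushAdj g).homEquiv_naturality_left _ _).trans ?_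
  refine Eq.trans ?_ ((EtCoh.pullPushAdj g).homEquiv_naturality_right _ _).symm
  let θ : EtCoh.push g' ⋙ EtCoh.push f ⟶ EtCoh.push f' ⋙ EtCoh.push g :=
    (EtCoh.pushComp f g').hom ≫ (EtCoh.pushCongr w).hom ≫ (EtCoh.pushComp g f').inv
  have e : ∀ H : EtCoh.Ab X, (EtCoh.pullPushAdj g).homEquiv _ _ (EtCoh.baseChange0 f g f' g' w H) =
      (EtCoh.push f).map ((EtCoh.pullPushAdj g').unit.app H) ≫ θ.app ((EtCoh.pull g').obj H) := fun H =>
    ((EtCoh.pullPushAdj g).homEquiv _ _).apply_symm_apply _
  refine (congrArg (_ ≫ ·) (e G)).trans (Eq.trans ?_ (congrArg (· ≫ _) (e F)).symm)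
  refine (Category.assoc _ _ _).symm.trans (Eq.trans ?_ (Category.assoc _ _ _).symm)
  refine (congrArg (· ≫ _) ((EtCoh.push f).map_comp _ _).symm).trans ?_
  refine (congrArg (fun q => (EtCoh.push f).map q ≫ _) ((EtCoh.pullPushAdj g').unit.naturality a)).trans ?_
  refine (congrArg (· ≫ _) ((EtCoh.push f).map_comp _ _)).trans ((Category.assoc _ _ _).trans ?_)
  exact congrArg (_ ≫ ·) (θ.naturality ((EtCoh.pull g').map a))

/-- The degree zero base change isomorphism. -/
noncomputable def bc0Iso (f : X ⟶ Y) [IsProper f] {Y' : Scheme.{u}} (g : Y' ⟶ Y) :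
    EtCoh.push f ⋙ EtCoh.pull g ≅ EtCoh.pull (pullback.fst f g) ⋙ EtCoh.push (pullback.snd f g) :=
  NatIso.ofComponents
    (fun F => @asIso _ _ _ _ (EtCoh.baseChange0 f g (pullback.snd f g) (pullback.fst f g) pullback.condition F)
      (Cons51.isIso_baseChange0_proper f g (pullback.snd f g) (pullback.fst f g) (IsPullback.of_hasPullback f g) F))
    (fun a => baseChange0_nat f g (pullback.snd f g) (pullback.fst f g) pullback.condition a)

/-- Composition. -/
theorem good_comp (f : X ⟶ Y) (g : Y ⟶ Z) [IsProper f] [IsProper g] (hf : Good f) (hg : Good g) :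
    Good (f ≫ g) := by
  intro T hT hq A _ _ _ a n
  let YA := pullback g a
  let b := pullback.fst g a
  let XA := pullback f b
  have h : IsPullback (pullback.fst f b) (pullback.snd f b ≫ pullback.snd g a) (f ≫ g) a :=
    ((IsPullback.of_hasPullback f b).paste_vert (IsPullback.of_hasPullback g a) :)
  refine (vanish_isPullback h (IsPullback.of_hasPullback (f ≫ g) a) T (n + 1)).1 ?_
  refine (vanish_leray (pullback.snd f b) _ (fun q => hf.isZero_Rpush hT hq (IsPullback.of_hasPullback f b) q) _).2 ?_
  exact vanish_iso ((bc0Iso f b).app T) (hg _ (isTorsion_push f hT) (qAcyclic_push f hq) A a n)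

/-- Global sections on fibre products over strictly henselian rings are exact after acyclic kernels. -/
theorem surjective_H0_fibre (g : Y ⟶ Z) [IsProper g] {S : ShortComplex (EtCoh.Ab Y)} (hS : S.ShortExact)
    (h₁ : QAcyclic S.X₁) (A : Type u) [CommRing A] [HenselianLocalRing A] [IsSepClosed (ResidueField A)]
    (a : Spec (CommRingCat.of A) ⟶ Z) :
    Function.Surjective (((EtCoh.HF (pullback g a) 0)).map ((EtCoh.pull (pullback.fst g a)).map S.g)) := by
  let Φ : EtCoh.push g ⋙ EtCoh.pull a ⋙ EtCore.gsec _ ≅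
      EtCoh.pull (pullback.fst g a) ⋙ EtCoh.HF (pullback g a) 0 :=
    (Functor.associator _ _ _).symm ≪≫ Functor.isoWhiskerRight (bc0Iso g a) _ ≪≫ Functor.associator _ _ _ ≪≫
      Functor.isoWhiskerLeft _ (EtCore.pushGsecIso (pullback.snd g a) ≪≫ (EtLim45.HF0Iso _).symm)
  have hS' := shortExact_push g hS h₁
  have := hS'.epi_g
  have : PreservesColimitsOfSize.{0, 0} (EtCoh.pull a) := (EtCoh.pullPushAdj a).leftAdjoint_preservesColimits
  have : Epi ((EtCoh.push g).map S.g) := hS'.epi_g
  have hepi : Epi ((EtCoh.pull a).map ((EtCoh.push g).map S.g)) := inferInstance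
  have hsurj : Function.Surjective ((EtCore.gsec _).map ((EtCoh.pull a).map ((EtCoh.push g).map S.g))) :=
    app_top_surjective A ((EtCoh.pull a).map ((EtCoh.push g).map S.g))
  intro y
  obtain ⟨x, hx⟩ := hsurj (Φ.inv.app S.X₃ y)
  refine ⟨Φ.hom.app S.X₂ x, ?_⟩
  refine (ConcreteCategory.congr_hom (Φ.hom.naturality S.g) x).symm.trans ?_
  exact (congrArg (Φ.hom.app S.X₃) hx).trans (ConcreteCategory.congr_hom (Φ.inv_hom_id_app S.X₃) y)

/-- Descent along proper surjections. -/
theorem good_of_surjective (f : X ⟶ Y) (g : Y ⟶ Z) [IsProper f] [Surjective f] [IsProper g]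
    (hf : Good f) (hfg : Good (f ≫ g)) : Good g := by
  intro T hT hq A _ _ _ a n
  induction n generalizing T with
  | zero =>
    obtain ⟨T', v, hv, hT', hq'⟩ := exists_torsion_qAcyclic (Cons51.isTorsion_pull f hT)
    let i : T ⟶ (EtCoh.push f).obj T' := (EtCoh.pullPushAdj f).unit.app T ≫ (EtCoh.push f).map v
    have := mono_unit_of_surjective f T
    have := Functor.preservesMonomorphisms_of_adjunction (EtCoh.pullPushAdj f)
    have : Mono i := mono_comp _ _
    have hS : (ShortComplex.mk i (cokernel.π i) (cokernel.condition i)).ShortExact :=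
      ShortComplex.ShortExact.mk' (ShortComplex.exact_cokernel _) inferInstance inferInstance
    let S := ShortComplex.mk i (cokernel.π i) (cokernel.condition i)
    let g' := pullback.fst g a
    have hS2 : Vanish _ ((EtCoh.pull g').obj S.X₂) 1 := by
      let b := pullback.fst g a
      refine vanish_iso ((bc0Iso f b).app T').symm ((vanish_leray (pullback.snd f b) _
        (fun q => hf.isZero_Rpush hT' hq' (IsPullback.of_hasPullback f b) q) _).1 ?_)
      exact hfg.vanish hT' hq' ((IsPullback.of_hasPullback f b).paste_vert (IsPullback.of_hasPullback g a)) 0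
    have hSA := EtCore45.shortExact_pull' g' hS
    refine subsingleton_of_forall_eq 0 fun x => ?_
    obtain ⟨y, rfl⟩ := Ext.covariant_sequence_exact₁ _ hSA x (hS2.elim _ _) (zero_add 1)
    obtain ⟨z, rfl⟩ := surjective_H0_fibre g hS hq A a y
    refine (Ext.comp_assoc_of_second_deg_zero z (Ext.mk₀ _) hSA.extClass (zero_add 1)).trans ?_
    exact (congrArg (fun w => Ext.comp z w (zero_add 1)) hSA.comp_extClass).trans (Ext.comp_zero _ _ _ _ _)
  | succ n ih =>
    obtain ⟨T', v, hv, hT', hq'⟩ := exists_torsion_qAcyclic (Cons51.isTorsion_pull f hT)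
    let i : T ⟶ (EtCoh.push f).obj T' := (EtCoh.pullPushAdj f).unit.app T ≫ (EtCoh.push f).map v
    have := mono_unit_of_surjective f T
    have := Functor.preservesMonomorphisms_of_adjunction (EtCoh.pullPushAdj f)
    have : Mono i := mono_comp _ _
    have hS : (ShortComplex.mk i (cokernel.π i) (cokernel.condition i)).ShortExact :=
      ShortComplex.ShortExact.mk' (ShortComplex.exact_cokernel _) inferInstance inferInstance
    let S := ShortComplex.mk i (cokernel.π i) (cokernel.condition i)
    let g' := pullback.fst g a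
    have hS2 : Vanish _ ((EtCoh.pull g').obj S.X₂) (n + 1 + 1) := by
      let b := pullback.fst g a
      refine vanish_iso ((bc0Iso f b).app T').symm ((vanish_leray (pullback.snd f b) _
        (fun q => hf.isZero_Rpush hT' hq' (IsPullback.of_hasPullback f b) q) _).1 ?_)
      exact hfg.vanish hT' hq' ((IsPullback.of_hasPullback f b).paste_vert (IsPullback.of_hasPullback g a)) (n + 1)
    have hSA := EtCore45.shortExact_pull' g' hS
    have hS3 : Vanish _ ((EtCoh.pull g').obj S.X₃) (n + 1) :=
      ih S.X₃ (Cons51.isTorsion_of_epi (cokernel.π i) (isTorsion_push f hT'))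
        (qAcyclic_quot hS hq (qAcyclic_push f hq'))
    refine subsingleton_of_forall_eq 0 fun x => ?_
    obtain ⟨y, rfl⟩ := Ext.covariant_sequence_exact₁ _ hSA x (hS2.elim _ _) rfl
    rw [hS3.elim y 0]
    exact Ext.zero_comp _ _ _ _ _

theorem qAcyclic_pull_etale {U : Scheme.{u}} (j : U ⟶ X) [Etale j] {T : EtCoh.Ab X} (hq : QAcyclic T) :
    QAcyclic ((EtCoh.pull j).obj T) := by
  intro W hc hs q hq0
  have : Etale W.hom := W.prop
  exact (vanish_comp W.hom j rfl T q).2 (hq ((EtShriek.compEtale j).obj W) hc hs q hq0)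

/-- Vanishing is local on the target. -/
theorem good_of_local (f : X ⟶ Y)
    (h : ∀ y : Y, ∃ U : Y.Opens, y ∈ U ∧ Good (f ∣_ U)) : Good f := by
  intro T hT hq A _ _ _ a n
  obtain ⟨U, hyU, hU⟩ := h (a (closedPoint A))
  have hr : Set.range a ⊆ Set.range U.ι := by
    rintro _ ⟨z, rfl⟩
    rw [Scheme.Opens.range_ι]
    exact ((specializes_closedPoint (z : PrimeSpectrum A)).map a.continuous).mem_open U.2 hyU
  let b := IsOpenImmersion.lift U.ι a hr
  have hb : b ≫ U.ι = a := IsOpenImmersion.lift_fac _ _ _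
  have hp := (IsPullback.of_hasPullback (f ∣_ U) b).paste_horiz (isPullback_morphismRestrict f U).flip
  refine (vanish_isPullback (hb ▸ hp) (IsPullback.of_hasPullback f a) T (n + 1)).1 ?_
  exact (vanish_comp _ _ rfl T _).1
    (hU _ (Cons51.isTorsion_pull _ hT) (qAcyclic_pull_etale _ hq) A b n)

end Groth.Agent.PBC51.Van
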