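import Groth.Agent.PBC51.Van.Basic
import Groth.Agent.LocConst45.AbPull
import Mathlib.FieldTheory.IsSepClosed
import Mathlib.FieldTheory.PurelyInseparable.Basic
import Mathlib.AlgebraicGeometry.Morphisms.Finite
import Mathlib.AlgebraicGeometry.Morphisms.UniversallyInjective

/-!
Geometric points of strict henselizations, sheaves with vanishing stalks at closed points, purely
inseparable field extensions.
-/

set_option autoImplicit false
set_option backward.isDefEq.respectTransparency.types false
set_option linter.unusedSectionVars false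
universe u

open CategoryTheory CategoryTheory.Limits AlgebraicGeometry Opposite IsLocalRing
open Groth.Agent.Unr55.EtSh

namespace Groth.Agent.PBC51.Van

variable {X : Scheme.{u}}

/-- A geometric point factors through the one of the strict henselization. -/
theorem exists_geomPt_hom {K : Type u} [Field K] [IsSepClosed K] (η : Spec (CommRingCat.of K) ⟶ X) :
    ∃ (y : X) (τ : ResidueField (SH X y) →+* K), Spec.map (CommRingCat.ofHom τ) ≫ Hens2.geomPt X y (SH X y) = η := by
  obtain ⟨⟨y, σ⟩, rfl⟩ := (X.SpecToEquivOfField K).symm.surjective η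
  refine ⟨y, ?_⟩
  let R := SH X y
  let k := ResidueField (X.presheaf.stalk y)
  let : Algebra k K := σ.hom.toAlgebra
  have hsep : Algebra.IsSeparable k (ResidueField R) :=
    (inferInstance : Hensel.IsStrictHenselization (X.presheaf.stalk y) R).isSepClosure.separable
  let τ : ResidueField R →ₐ[k] K := IsSepClosed.lift
  refine ⟨τ.toRingHom, ?_⟩
  rw [Scheme.SpecToEquivOfField_symm_apply, Hens2.geomPt, Hens2.specOf]
  show _ = Spec.map σ ≫ (Spec.map (CommRingCat.ofHom (residue (X.presheaf.stalk y))) ≫ X.fromSpecStalk y)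
  simp only [← Category.assoc, ← Spec.map_comp]
  congr 2
  ext a
  exact τ.commutes (residue _ a)

/-- A sheaf on a Jacobson scheme with vanishing stalks at closed points is zero. -/
theorem isZero_of_closedPoints [JacobsonSpace X] (F : EtCoh.Ab X)
    (h : ∀ (K : Type u) [Field K] [IsSepClosed K] (η : Spec (CommRingCat.of K) ⟶ X),
      IsClosed ({η default} : Set X) → Subsingleton ((EtCoh.stalk η).obj F : AddCommGrpCat.{u + 1})) :
    IsZero F := by
  refine EtCore45.isZero_of_stalks _ fun K _ _ η => ?_
  suffices Subsingleton ((EtCoh.stalk η).obj F : AddCommGrpCat.{u + 1}) from AddCommGrpCat.isZero_of_subsingleton _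
  refine subsingleton_of_forall_eq 0 fun a => ?_
  obtain ⟨V, t, σ, rfl⟩ := exists_germ_eq η F a
  let O : Set V.left := {v | ∃ (W : X.Etale) (g : W ⟶ V), v ∈ Set.range g.left ∧ F.obj.map g.op σ = 0}
  have hO : IsOpen O := by
    rw [isOpen_iff_forall_mem_open]
    rintro v ⟨W, g, hv, hg⟩
    have := etale_left g
    exact ⟨_, fun w hw => ⟨W, g, hw, hg⟩, g.left.isOpenMap.isOpen_range, hv⟩
  have : Etale V.hom := V.prop
  have hjac : ∀ {W : Scheme.{u}} (f : W ⟶ X) [LocallyOfFiniteType f], JacobsonSpace W ∧
      closedPoints W ⊆ f ⁻¹' closedPoints X := fun f _ =>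
    ⟨LocallyOfFiniteType.jacobsonSpace f, f.closePoints_subset_preimage_closedPoints⟩
  obtain ⟨hJ, hcp⟩ := @hjac V.left V.hom (inferInstanceAs (LocallyOfFiniteType V.hom))
  have hall : Oᶜ = ∅ := by
    by_contra hne
    obtain ⟨v, hvO, hv⟩ := nonempty_inter_closedPoints (Set.nonempty_iff_ne_empty.2 hne)
      hO.isClosed_compl.isLocallyClosed
    have hcl : IsClosed ({V.hom v} : Set X) := hcp hv
    let Ω := AlgebraicClosure (V.left.residueField v)
    let η₀ : Spec (CommRingCat.of Ω) ⟶ V.left :=
      Spec.map (CommRingCat.ofHom (algebraMap (V.left.residueField v) Ω)) ≫ V.left.fromSpecResidueField v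
    let t₀ : Pt (η₀ ≫ V.hom) V := mkPt _ η₀ rfl
    have hη : η₀ default = v := by
      rw [Scheme.Hom.comp_apply]
      exact V.left.fromSpecResidueField_apply v _
    have := h Ω (η₀ ≫ V.hom) (by rw [Scheme.Hom.comp_apply, hη]; exact hcl)
    obtain ⟨W, g, t', hg, hW⟩ := (germ_eq_zero_iff (η₀ ≫ V.hom) F t₀ σ).1 (Subsingleton.elim _ _)
    refine hvO ⟨W, g, ⟨hom _ t' default, ?_⟩, hW⟩
    have e : hom _ t' ≫ g.left = η₀ := congrArg (hom (η₀ ≫ V.hom)) hg
    rw [← Scheme.Hom.comp_apply, e, hη]
  obtain ⟨W, g, ⟨w, hw⟩, hg⟩ : hom η t default ∈ O := by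
    by_contra hn
    exact (Set.ext_iff.1 hall _).1 hn
  obtain ⟨t', ht'⟩ := LocConst45.exists_pt_over g t w hw
  rw [← ht', ← germ_map, hg, map_zero]

/-- Purely inseparable field extensions give universal homeomorphisms. -/
theorem uh_of_isPurelyInseparable {k K : Type u} [Field k] [Field K] [Algebra k K] [IsPurelyInseparable k K] :
    IsIntegralHom (Spec.map (CommRingCat.ofHom (algebraMap k K))) ∧
    UniversallyInjective (Spec.map (CommRingCat.ofHom (algebraMap k K))) ∧
    Surjective (Spec.map (CommRingCat.ofHom (algebraMap k K))) := by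
  refine ⟨IsIntegralHom.SpecMap_iff.2 fun x => Algebra.IsIntegral.isIntegral (R := k) x, ?_, ⟨fun x => ⟨default, ?_⟩⟩⟩
  · refine ((tfae_universallyInjective _).out 0 1).2 ?_
    intro L _ g₁ g₂ hg
    obtain ⟨a, rfl⟩ := Spec.map_surjective g₁
    obtain ⟨b, rfl⟩ := Spec.map_surjective g₂
    dsimp only at hg
    rw [← Spec.map_comp, ← Spec.map_comp, Spec.map_inj] at hg
    congr 1
    exact CommRingCat.hom_ext (IsPurelyInseparable.injective_comp_algebraMap k K L (congrArg CommRingCat.Hom.hom hg))
  · exact Subsingleton.elim (α := PrimeSpectrum k) _ x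

end Groth.Agent.PBC51.Van
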