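import Groth.Agent.Approx60.Segre
import Groth.Agent.REqLine99.Line

/-!
The surjection `P^n × P^1 ⟶ P^(n+1)`: multiplication of a form of degree `n` and a linear form in
two variables.
-/

set_option autoImplicit false
set_option linter.unusedSectionVars false

universe u

open CategoryTheory CategoryTheory.Limits AlgebraicGeometry Opposite TopologicalSpace

noncomputable section

set_option backward.isDefEq.respectTransparency false

namespace Groth.Agent.PBC51.ProjMu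

open Approx60 Approx60.ProjCharts REqLine99

section Poly

variable {B C : Type u} [CommRing B] [CommRing C] {k m : ℕ}

/-- The polynomial with the given coefficients. -/
def vecPoly (a : Fin (k + 1) → B) : Polynomial B :=
  ∑ l : Fin (k + 1), Polynomial.C (a l) * Polynomial.X ^ (l : ℕ)

theorem coeff_vecPoly (a : Fin (k + 1) → B) (l : Fin (k + 1)) : (vecPoly a).coeff l = a l := by
  rw [vecPoly, Polynomial.finsetSum_coeff, Finset.sum_eq_single l]
  · simp
  · intro b _ hb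
    rw [Polynomial.coeff_C_mul_X_pow, if_neg (fun h => hb (Fin.ext h.symm))]
  · simp

theorem natDegree_vecPoly (a : Fin (k + 1) → B) : (vecPoly a).natDegree ≤ k :=
  Polynomial.natDegree_sum_le_of_forall_le _ _ fun l _ =>
    (Polynomial.natDegree_C_mul_X_pow_le _ _).trans (Nat.le_of_lt_succ l.2)

theorem map_vecPoly (φ : B →+* C) (a : Fin (k + 1) → B) : (vecPoly a).map φ = vecPoly (fun l => φ (a l)) := by
  simp [vecPoly, Polynomial.map_sum]

theorem vecPoly_smul (r : B) (a : Fin (k + 1) → B) :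
    vecPoly (fun l => r * a l) = Polynomial.C r * vecPoly a := by
  simp [vecPoly, Finset.mul_sum, mul_assoc]

theorem vecPoly_coeff {p : Polynomial B} (hp : p.natDegree ≤ k) :
    vecPoly (fun l : Fin (k + 1) => p.coeff l) = p := by
  ext e
  by_cases he : e ≤ k
  · exact coeff_vecPoly (fun l : Fin (k + 1) => p.coeff l) ⟨e, Nat.lt_succ_of_le he⟩
  · rw [Polynomial.coeff_eq_zero_of_natDegree_lt (lt_of_le_of_lt hp (not_le.1 he)),
      Polynomial.coeff_eq_zero_of_natDegree_lt (lt_of_le_of_lt (natDegree_vecPoly _) (not_le.1 he))]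

/-- The coefficients of a product. -/
def cprod (a : Fin (k + 1) → B) (b : Fin (1 + 1) → B) (l : Fin (k + 1 + 1)) : B :=
  (vecPoly a * vecPoly b).coeff l

theorem map_cprod (φ : B →+* C) (a : Fin (k + 1) → B) (b : Fin (1 + 1) → B) (l : Fin (k + 1 + 1)) :
    φ (cprod a b l) = cprod (fun i => φ (a i)) (fun i => φ (b i)) l := by
  rw [cprod, cprod, ← map_vecPoly, ← map_vecPoly, ← Polynomial.map_mul, Polynomial.coeff_map]

theorem cprod_smul (r s : B) (a : Fin (k + 1) → B) (b : Fin (1 + 1) → B) (l : Fin (k + 1 + 1)) :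
    cprod (fun i => r * a i) (fun i => s * b i) l = r * s * cprod a b l := by
  rw [cprod, cprod, vecPoly_smul, vecPoly_smul,
    show Polynomial.C r * vecPoly a * (Polynomial.C s * vecPoly b) =
      Polynomial.C (r * s) * (vecPoly a * vecPoly b) by rw [map_mul]; ring,
    Polynomial.coeff_C_mul]

/-- The product of two nonzero forms over a field is nonzero. -/
theorem exists_cprod_ne_zero {K : Type u} [Field K] (a : Fin (k + 1) → K) (b : Fin (1 + 1) → K)
    (ha : ∃ i, a i ≠ 0) (hb : ∃ j, b j ≠ 0) : ∃ l, cprod a b l ≠ 0 := by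
  obtain ⟨i, hi⟩ := ha
  obtain ⟨j, hj⟩ := hb
  have ha' : vecPoly a ≠ 0 := fun h => hi (by rw [← coeff_vecPoly a i, h, Polynomial.coeff_zero])
  have hb' : vecPoly b ≠ 0 := fun h => hj (by rw [← coeff_vecPoly b j, h, Polynomial.coeff_zero])
  by_contra! h
  refine mul_ne_zero ha' hb' (Polynomial.ext fun e => ?_)
  by_cases he : e < k + 1 + 1
  · exact (h ⟨e, he⟩).trans (Polynomial.coeff_zero e).symm
  · rw [Polynomial.coeff_zero, Polynomial.coeff_eq_zero_of_natDegree_lt]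
    exact lt_of_le_of_lt (Polynomial.natDegree_mul_le.trans
      (add_le_add (natDegree_vecPoly a) (natDegree_vecPoly b))) (by omega)

/-- Over an algebraically closed field every form is a product. -/
theorem exists_factor {K : Type u} [Field K] [IsAlgClosed K] (c : Fin (k + 1 + 1) → K) (hc : ∃ l, c l ≠ 0) :
    ∃ (a : Fin (k + 1) → K) (b : Fin (1 + 1) → K) (i : Fin (k + 1)) (j : Fin (1 + 1)) (r : K),
      r ≠ 0 ∧ a i = 1 ∧ b j = 1 ∧ ∀ l, c l = r * cprod a b l := by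
  obtain ⟨l₀, hl₀⟩ := hc
  obtain ⟨q, b, j, hbj, hq, hp⟩ : ∃ (q : Polynomial K) (b : Fin (1 + 1) → K) (j : Fin (1 + 1)),
      b j = 1 ∧ q.natDegree ≤ k ∧ vecPoly c = q * vecPoly b := by
    by_cases hd : (vecPoly c).natDegree ≤ k
    · exact ⟨vecPoly c, ![1, 0], 0, rfl, hd, by simp [vecPoly, Fin.sum_univ_two]⟩
    · have hd' : (vecPoly c).natDegree = k + 1 := le_antisymm (natDegree_vecPoly c) (by omega)
      obtain ⟨t, ht⟩ := IsAlgClosed.exists_root (vecPoly c)
        (fun h => by rw [Polynomial.natDegree_eq_zero_iff_degree_le_zero.2 h.le] at hd'; omega)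
      refine ⟨vecPoly c /ₘ (Polynomial.X - Polynomial.C t), ![-t, 1], 1, rfl, ?_, ?_⟩
      · rw [Polynomial.natDegree_divByMonic _ (Polynomial.monic_X_sub_C t), hd', Polynomial.natDegree_X_sub_C]
        omega
      · conv_lhs => rw [← Polynomial.mul_divByMonic_eq_iff_isRoot.2 ht]
        simp [vecPoly, Fin.sum_univ_two]
        ring
  have hq0 : ∃ i : Fin (k + 1), q.coeff i ≠ 0 := by
    by_contra! h
    have : q = 0 := by
      rw [← vecPoly_coeff hq]
      simp [vecPoly, h]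
    exact hl₀ (by rw [← coeff_vecPoly c l₀, hp, this, zero_mul, Polynomial.coeff_zero])
  obtain ⟨i, hi⟩ := hq0
  refine ⟨fun l => (q.coeff i)⁻¹ * q.coeff l, b, i, j, q.coeff i, hi, inv_mul_cancel₀ hi, hbj, fun l => ?_⟩
  rw [cprod, vecPoly_smul, vecPoly_coeff hq, mul_assoc, Polynomial.coeff_C_mul, ← hp, coeff_vecPoly,
    mul_inv_cancel_left₀ hi]

end Poly

section Glue

variable {k : Type u} [CommRing k] {X : Scheme.{u}} [X.Over (Spec (CommRingCat.of k))] {N : ℕ}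

local notation "Poly" => MvPolynomial (Fin (N + 1)) k

/-- A morphism to projective space from coordinates on a cover, agreeing up to units. -/
theorem exists_morphism {ι : Type u} (W : ι → X.Opens) (hcover : ⨆ i, W i = ⊤)
    (a : ∀ i, Fin (N + 1) → Γ(X, W i)) (j : ι → Fin (N + 1))
    (hu : ∀ i, IsUnit (MvPolynomial.eval₂Hom (const (k := k) X (W i)) (a i) (MvPolynomial.X (j i) : Poly)))
    (hcomp : ∀ i i', ∃ r : Γ(X, W i ⊓ W i'), IsUnit r ∧
      ∀ l, X.presheaf.map (homOfLE (inf_le_left : W i ⊓ W i' ≤ W i)).op (a i l) =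
        r * X.presheaf.map (homOfLE (inf_le_right : W i ⊓ W i' ≤ W i')).op (a i' l)) :
    ∃ φ : X ⟶ CohB1.ProjSpace N k,
      ∀ i, (W i).ι ≫ φ = chart (W i) (a i) _ (X₁ k N (j i)).2 one_pos (hu i) := by
  let m : ∀ i, (W i : Scheme.{u}) ⟶ CohB1.ProjSpace N k := fun i =>
    chart (W i) (a i) _ (X₁ k N (j i)).2 one_pos (hu i)
  have hagree : ∀ i i', X.homOfLE (inf_le_left : W i ⊓ W i' ≤ W i) ≫ m i =
      X.homOfLE (inf_le_right : W i ⊓ W i' ≤ W i') ≫ m i' := by
    intro i i'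
    set V := W i ⊓ W i' with hV
    obtain ⟨r, hr, hra⟩ : ∃ r : Γ(X, V), IsUnit r ∧
        ∀ l, X.presheaf.map (homOfLE (inf_le_left : V ≤ W i)).op (a i l) =
          r * X.presheaf.map (homOfLE (inf_le_right : V ≤ W i')).op (a i' l) := hcomp i i'
    set ρ := X.presheaf.map (homOfLE (inf_le_left : V ≤ W i)).op
    set ρ' := X.presheaf.map (homOfLE (inf_le_right : V ≤ W i')).op
    have hi : IsUnit (a i (j i)) := by simpa using hu i
    have hi' : IsUnit (a i' (j i')) := by simpa using hu i'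
    have h1 : IsUnit (ρ (a i (j i))) := hi.map ρ.hom
    have h2 : IsUnit (ρ' (a i' (j i'))) := hi'.map ρ'.hom
    have h3 : IsUnit (ρ (a i (j i'))) := by rw [hra]; exact hr.mul h2
    have h4 : IsUnit (ρ' (a i' (j i))) := by
      have := h1
      rw [hra] at this
      exact (IsUnit.mul_iff.1 this).2
    let x : Poly := MvPolynomial.X (j i) * MvPolynomial.X (j i')
    have hxd : x ∈ CohB1.polyGrading N k (1 + 1) := SetLike.mul_mem_graded (X₁ k N (j i)).2 (X₁ k N (j i')).2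
    have hxa : IsUnit (MvPolynomial.eval₂Hom (const (k := k) X V) (fun l => ρ (a i l)) x) := by
      simp only [x, map_mul, MvPolynomial.eval₂Hom_X']; exact h1.mul h3
    have hxb : IsUnit (MvPolynomial.eval₂Hom (const (k := k) X V) (fun l => ρ' (a i' l)) x) := by
      simp only [x, map_mul, MvPolynomial.eval₂Hom_X']; exact h4.mul h2
    show X.homOfLE _ ≫ chart (W i) (a i) _ _ _ _ = X.homOfLE _ ≫ chart (W i') (a i') _ _ _ _
    rw [chart_res (inf_le_left : V ≤ W i) (a i) _ _ (X₁ k N (j i)).2 (X₁ k N (j i')).2 (x := x) rfl hxd _ hxa,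
      chart_res (inf_le_right : V ≤ W i') (a i') _ _ (X₁ k N (j i')).2 (X₁ k N (j i)).2 (x := x) (mul_comm _ _)
        hxd _ hxb]
    have hxc : IsUnit (MvPolynomial.eval₂Hom (const (k := k) X V) (fun l => r * ρ' (a i' l)) x) := by
      rw [show (fun l => r * ρ' (a i' l)) = fun l => ρ (a i l) from funext fun l => (hra l).symm]
      exact hxa
    rw [chart_congr V (funext fun l => hra l) x hxd _ hxa hxc, chart, chart,
      awayEval_smul _ _ hr _ x hxc hxb]
  let 𝒰 := X.openCoverOfIsOpenCover W (TopologicalSpace.IsOpenCover.mk hcover)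
  refine ⟨𝒰.glueMorphisms m ?_, fun i => 𝒰.ι_glueMorphisms _ _ i⟩
  intro (i : ι) (i' : ι)
  rw [← cancel_epi (isPullback_opens_inf (W i) (W i')).isoPullback.hom, ← Category.assoc, ← Category.assoc]
  show ((isPullback_opens_inf (W i) (W i')).isoPullback.hom ≫ pullback.fst (W i).ι (W i').ι) ≫ m i =
    ((isPullback_opens_inf (W i) (W i')).isoPullback.hom ≫ pullback.snd (W i).ι (W i').ι) ≫ m i'
  rw [IsPullback.isoPullback_hom_fst, IsPullback.isoPullback_hom_snd]
  exact hagree i i'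

end Glue

variable (n : ℕ)

/-- The product over the integers. -/
abbrev PP : Scheme.{u} := pullback (CohB1.ProjSpace.toSpec n Z₀.{u}) (CohB1.ProjSpace.toSpec 1 Z₀.{u})

/-- The product of two charts. -/
abbrev WW (ij : Fin (n + 1) × Fin (1 + 1)) : (PP.{u} n).Opens := Segre.W Z₀.{u} n 1 ij

/-- The coordinates on the first factor. -/
def fA (ij : Fin (n + 1) × Fin (1 + 1)) (k : Fin (n + 1)) : Γ(PP.{u} n, WW n ij) :=
  (Segre.pr₁ Z₀.{u} n 1).appLE (U Z₀.{u} n ij.1) (WW n ij) inf_le_left (Segre.f Z₀.{u} n ij.1 k)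

/-- The coordinates on the second factor. -/
def fB (ij : Fin (n + 1) × Fin (1 + 1)) (k : Fin (1 + 1)) : Γ(PP.{u} n, WW n ij) :=
  (Segre.pr₂ Z₀.{u} n 1).appLE (U Z₀.{u} 1 ij.2) (WW n ij) inf_le_right (Segre.f Z₀.{u} 1 ij.2 k)

/-- The coefficients of the product. -/
def cs (ij : Fin (n + 1) × Fin (1 + 1)) (l : Fin (n + 1 + 1)) : Γ(PP.{u} n, WW n ij) :=
  cprod (fA n ij) (fB n ij) l

/-- Change of coordinates. -/
theorem appLE_cocycle {X : Scheme.{u}} {k : ℕ} (g : X ⟶ CohB1.ProjSpace k Z₀.{u}) (i i' l : Fin (k + 1))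
    {W W' O : X.Opens} (h : W ≤ g ⁻¹ᵁ U Z₀.{u} k i) (h' : W' ≤ g ⁻¹ᵁ U Z₀.{u} k i') (hO : O ≤ W) (hO' : O ≤ W') :
    X.presheaf.map (homOfLE hO).op (g.appLE (U Z₀.{u} k i) _ h (Segre.f Z₀.{u} k i l)) =
      X.presheaf.map (homOfLE hO).op (g.appLE (U Z₀.{u} k i) _ h (Segre.f Z₀.{u} k i i')) *
        X.presheaf.map (homOfLE hO').op (g.appLE (U Z₀.{u} k i') _ h' (Segre.f Z₀.{u} k i' l)) := by
  have hO₂ : O ≤ g ⁻¹ᵁ (U Z₀.{u} k i ⊓ U Z₀.{u} k i') := fun y hy => ⟨h (hO hy), h' (hO' hy)⟩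
  have h3 := congrArg (g.appLE (U Z₀.{u} k i ⊓ U Z₀.{u} k i') O hO₂)
    (Segre.f_cocycle Z₀.{u} k i i' l (inf_le_left : U Z₀.{u} k i ⊓ U Z₀.{u} k i' ≤ _) inf_le_right)
  simp only [map_mul, ← CommRingCat.comp_apply, Scheme.Hom.map_appLE] at h3
  simp only [← CommRingCat.comp_apply, Scheme.Hom.appLE_map]
  exact h3

theorem isUnit_cocycle {X : Scheme.{u}} {k : ℕ} (g : X ⟶ CohB1.ProjSpace k Z₀.{u}) (i i' : Fin (k + 1))
    {W W' O : X.Opens} (h : W ≤ g ⁻¹ᵁ U Z₀.{u} k i) (h' : W' ≤ g ⁻¹ᵁ U Z₀.{u} k i') (hO : O ≤ W) (hO' : O ≤ W') :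
    IsUnit (X.presheaf.map (homOfLE hO).op (g.appLE (U Z₀.{u} k i) _ h (Segre.f Z₀.{u} k i i'))) := by
  have h1 := appLE_cocycle g i i' i h h' hO hO'
  rw [Segre.f_self, map_one, map_one] at h1
  exact IsUnit.of_mul_eq_one _ h1.symm

theorem res_res {X : Scheme.{u}} {A B C : X.Opens} (h : B ≤ A) (h' : C ≤ B) (z : Γ(X, A)) :
    X.presheaf.map (homOfLE h').op (X.presheaf.map (homOfLE h).op z) =
      X.presheaf.map (homOfLE (h'.trans h)).op z := by
  rw [← CommRingCat.comp_apply, ← Functor.map_comp]; rfl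

theorem exists_unit_cs (ij ij' : Fin (n + 1) × Fin (1 + 1)) {O : (PP.{u} n).Opens} (hO : O ≤ WW n ij)
    (hO' : O ≤ WW n ij') : ∃ r : Γ(PP.{u} n, O), IsUnit r ∧ ∀ l,
      (PP.{u} n).presheaf.map (homOfLE hO).op (cs n ij l) = r * (PP.{u} n).presheaf.map (homOfLE hO').op (cs n ij' l) := by
  refine ⟨(PP.{u} n).presheaf.map (homOfLE hO).op (fA n ij ij'.1) * (PP.{u} n).presheaf.map (homOfLE hO).op (fB n ij ij'.2),
    (isUnit_cocycle (Segre.pr₁ Z₀.{u} n 1) ij.1 ij'.1 inf_le_left inf_le_left hO hO').mul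
      (isUnit_cocycle (Segre.pr₂ Z₀.{u} n 1) ij.2 ij'.2 inf_le_right inf_le_right hO hO'), fun l => ?_⟩
  rw [cs, cs, map_cprod, map_cprod, ← cprod_smul]
  congr 1 <;> funext k
  · exact appLE_cocycle (Segre.pr₁ Z₀.{u} n 1) ij.1 ij'.1 k inf_le_left inf_le_left hO hO'
  · exact appLE_cocycle (Segre.pr₂ Z₀.{u} n 1) ij.2 ij'.2 k inf_le_right inf_le_right hO hO'

theorem exists_mem_basicOpen (ij : Fin (n + 1) × Fin (1 + 1)) (x : PP.{u} n) (hx : x ∈ WW n ij) :
    ∃ l, x ∈ (PP.{u} n).basicOpen (cs n ij l) := by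
  let ev := ((PP.{u} n).evaluation (WW n ij) x hx).hom
  have h1 : fA.{u} n ij ij.1 = 1 := by rw [fA, Segre.f_self, map_one]
  have h2 : fB.{u} n ij ij.2 = 1 := by rw [fB, Segre.f_self, map_one]
  obtain ⟨l, hl⟩ := exists_cprod_ne_zero (fun k => ev (fA n ij k)) (fun k => ev (fB n ij k))
    ⟨ij.1, by rw [h1, map_one]; exact one_ne_zero⟩ ⟨ij.2, by rw [h2, map_one]; exact one_ne_zero⟩
  refine ⟨l, ((PP.{u} n).evaluation_ne_zero_iff_mem_basicOpen x hx _).1 ?_⟩
  rw [← map_cprod] at hl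
  exact hl

/-- A map from a point into a chart, through the coordinate ring. -/
theorem lift_toSpecΓ {X : Scheme.{u}} {W : X.Opens} (hW : IsAffineOpen W) {K : Type u} [CommRing K]
    (x : Spec (CommRingCat.of K) ⟶ X) (xl : Spec (CommRingCat.of K) ⟶ (W : Scheme.{u})) (hxl : xl ≫ W.ι = x)
    (h : ⊤ ≤ x ⁻¹ᵁ W) :
    xl ≫ W.toSpecΓ = Spec.map (x.appLE W ⊤ h ≫ (Scheme.ΓSpecIso (CommRingCat.of K)).hom) := by
  rw [← cancel_mono hW.fromSpec, Category.assoc, hW.toSpecΓ_fromSpec, hxl, Spec.map_comp, Category.assoc,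
    hW.SpecMap_appLE_fromSpec x (isAffineOpen_top _) h, IsAffineOpen.fromSpec_top, Scheme.isoSpec_Spec_inv,
    ← Category.assoc, ← Spec.map_comp, Iso.inv_hom_id, Spec.map_id, Category.id_comp]

theorem appLE_awayι (k : ℕ) (i : Fin (k + 1)) {K : Type u} [CommRing K]
    (θ : HomogeneousLocalization.Away (CohB1.polyGrading k Z₀.{u}) (MvPolynomial.X i) →+* K)
    (g : Spec (CommRingCat.of K) ⟶ CohB1.ProjSpace k Z₀.{u})
    (hg : g = Spec.map (CommRingCat.ofHom θ) ≫
      Proj.awayι (CohB1.polyGrading k Z₀.{u}) (MvPolynomial.X i) (X₁ Z₀.{u} k i).2 one_pos)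
    (h : ⊤ ≤ g ⁻¹ᵁ U Z₀.{u} k i) :
    Proj.awayToSection (CohB1.polyGrading k Z₀.{u}) (MvPolynomial.X i) ≫
      g.appLE (U Z₀.{u} k i) ⊤ h ≫ (Scheme.ΓSpecIso (CommRingCat.of K)).hom = CommRingCat.ofHom θ := by
  apply Spec.map_injective
  rw [← cancel_mono (Proj.awayι (CohB1.polyGrading k Z₀.{u}) (MvPolynomial.X i) (X₁ Z₀.{u} k i).2 one_pos),
    Spec.map_comp, Category.assoc, ← Segre.fromSpec_U, Spec.map_comp, Category.assoc,
    IsAffineOpen.SpecMap_appLE_fromSpec g (isAffineOpen_U _ k i) (isAffineOpen_top _) h,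
    IsAffineOpen.fromSpec_top, Scheme.isoSpec_Spec_inv, ← Category.assoc, ← Spec.map_comp,
    Iso.inv_hom_id, Spec.map_id, Category.id_comp, hg]

section Point

variable {K : Type u} [Field K] {k : ℕ} (a : Fin (k + 1) → K) (i : Fin (k + 1))
  (hu : IsUnit (evalAt a (MvPolynomial.X i)))

theorem point_mem (z : Spec (CommRingCat.of K)) :
    PnConst7.point (evalAt a) (MvPolynomial.X i) (X₁ Z₀.{u} k i).2 one_pos hu z ∈ U Z₀.{u} k i := by
  rw [PnConst7.point, Scheme.Hom.comp_apply]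
  exact (Proj.opensRange_awayι (CohB1.polyGrading k Z₀.{u}) (MvPolynomial.X i) (X₁ Z₀.{u} k i).2 one_pos).le
    ⟨_, rfl⟩

theorem point_appLE (hi : a i = 1) (l : Fin (k + 1))
    (h : ⊤ ≤ PnConst7.point (evalAt a) (MvPolynomial.X i) (X₁ Z₀.{u} k i).2 one_pos hu ⁻¹ᵁ U Z₀.{u} k i) :
    (Scheme.ΓSpecIso (CommRingCat.of K)).hom
      ((PnConst7.point (evalAt a) (MvPolynomial.X i) (X₁ Z₀.{u} k i).2 one_pos hu).appLE _ ⊤ h
        (Segre.f Z₀.{u} k i l)) = a l := by
  generalize hg : PnConst7.point (evalAt a) (MvPolynomial.X i) (X₁ Z₀.{u} k i).2 one_pos hu = g at h ⊢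
  have e := ConcreteCategory.congr_hom
    (appLE_awayι k i (awayEval (evalAt a) _ hu) g (by rw [← hg, PnConst7.point]) h)
    (frac Z₀.{u} k i (X₁ Z₀.{u} k l))
  rw [CommRingCat.comp_apply, CommRingCat.comp_apply] at e
  unfold Segre.f
  refine Eq.trans ?_ (awayEval_frac (cst K) a i hi hu l)
  exact e

end Point

/-- Multiplication of forms: a surjection `P^n × P^1 ⟶ P^(n+1)`. -/
theorem exists_mu : ∃ μ : PP.{u} n ⟶ CohB1.ProjSpace (n + 1) Z₀.{u}, Surjective μ := by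
  classical
  let : (PP.{u} n).Over (Spec (CommRingCat.of Z₀.{u})) :=
    ⟨pullback.fst _ _ ≫ CohB1.ProjSpace.toSpec n Z₀.{u}⟩
  let ι := ULift.{u} ((Fin (n + 1) × Fin (1 + 1)) × Fin (n + 1 + 1))
  let W : ι → (PP.{u} n).Opens := fun s => (PP.{u} n).basicOpen (cs n s.down.1 s.down.2)
  have hWle : ∀ s : ι, W s ≤ WW n s.down.1 := fun s => (PP.{u} n).basicOpen_le _
  let a : ∀ s : ι, Fin (n + 1 + 1) → Γ(PP.{u} n, W s) := fun s l =>
    (PP.{u} n).presheaf.map (homOfLE (hWle s)).op (cs n s.down.1 l)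
  have hu : ∀ s, IsUnit (MvPolynomial.eval₂Hom (const (k := Z₀.{u}) (PP.{u} n) (W s)) (a s)
      (MvPolynomial.X s.down.2 : MvPolynomial (Fin (n + 1 + 1)) Z₀.{u})) := fun s =>
    isUnit_eval_X _ _ _ ((PP.{u} n).toRingedSpace.isUnit_res_basicOpen _)
  have hcover : ⨆ s, W s = ⊤ := top_le_iff.1 fun x _ => by
    obtain ⟨i, hi⟩ := exists_mem_U Z₀.{u} n (Segre.pr₁ Z₀.{u} n 1 x)
    obtain ⟨j, hj⟩ := exists_mem_U Z₀.{u} 1 (Segre.pr₂ Z₀.{u} n 1 x)
    obtain ⟨l, hl⟩ := exists_mem_basicOpen n (i, j) x ⟨hi, hj⟩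
    exact Opens.mem_iSup.2 ⟨⟨(i, j), l⟩, hl⟩
  obtain ⟨μ, hμ⟩ := exists_morphism W hcover a (fun s => s.down.2) hu (fun s s' => by
    obtain ⟨r, hr, hrl⟩ := exists_unit_cs n s.down.1 s'.down.1 (O := W s ⊓ W s')
      (inf_le_left.trans (hWle s)) (inf_le_right.trans (hWle s'))
    exact ⟨r, hr, fun l => by rw [res_res, res_res]; exact hrl l⟩)
  refine ⟨μ, ⟨fun y => ?_⟩⟩
  let κ := (CohB1.ProjSpace (n + 1) Z₀.{u}).residueField y
  let K := AlgebraicClosure κ
  let g : Spec (CommRingCat.of K) ⟶ CohB1.ProjSpace (n + 1) Z₀.{u} :=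
    Spec.map (CommRingCat.ofHom (algebraMap κ K)) ≫ (CohB1.ProjSpace (n + 1) Z₀.{u}).fromSpecResidueField y
  obtain ⟨c, i₀, hc0, huc, hg⟩ := exists_coords K g
  obtain ⟨α, β, i, j, r, hr, hαi, hβj, hcl⟩ := exists_factor c ⟨i₀, hc0⟩
  have huα : IsUnit (evalAt α (MvPolynomial.X i)) := isUnit_eval_X _ _ _ (hαi ▸ isUnit_one)
  have huβ : IsUnit (evalAt β (MvPolynomial.X j)) := isUnit_eval_X _ _ _ (hβj ▸ isUnit_one)
  let x1 := PnConst7.point (evalAt α) (MvPolynomial.X i) (X₁ Z₀.{u} n i).2 one_pos huα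
  let x2 := PnConst7.point (evalAt β) (MvPolynomial.X j) (X₁ Z₀.{u} 1 j).2 one_pos huβ
  let x : Spec (CommRingCat.of K) ⟶ PP.{u} n := pullback.lift x1 x2 (specULiftZIsTerminal.hom_ext _ _)
  have hx1 : x ≫ Segre.pr₁ Z₀.{u} n 1 = x1 := pullback.lift_fst _ _ _
  have hx2 : x ≫ Segre.pr₂ Z₀.{u} n 1 = x2 := pullback.lift_snd _ _ _
  have hxW : ⊤ ≤ x ⁻¹ᵁ WW n (i, j) := fun z _ => by
    refine ⟨?_, ?_⟩
    · show Segre.pr₁ Z₀.{u} n 1 (x z) ∈ U Z₀.{u} n i
      rw [← Scheme.Hom.comp_apply, hx1]; exact point_mem α i huα z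
    · show Segre.pr₂ Z₀.{u} n 1 (x z) ∈ U Z₀.{u} 1 j
      rw [← Scheme.Hom.comp_apply, hx2]; exact point_mem β j huβ z
  let ψ := (x.appLE (WW n (i, j)) ⊤ hxW ≫ (Scheme.ΓSpecIso (CommRingCat.of K)).hom).hom
  have hψA : (fun l => ψ (fA n (i, j) l)) = α := funext fun l => by
    refine Eq.trans ?_ (point_appLE α i huα hαi l (fun z _ => point_mem α i huα z))
    simp only [ψ, fA, CommRingCat.hom_comp, RingHom.comp_apply, ← CommRingCat.comp_apply,
      Scheme.Hom.appLE_comp_appLE, hx1]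
    rfl
  have hψB : (fun l => ψ (fB n (i, j) l)) = β := funext fun l => by
    refine Eq.trans ?_ (point_appLE β j huβ hβj l (fun z _ => point_mem β j huβ z))
    simp only [ψ, fB, CommRingCat.hom_comp, RingHom.comp_apply, ← CommRingCat.comp_apply,
      Scheme.Hom.appLE_comp_appLE, hx2]
    rfl
  have hψc : ∀ l, ψ (cs n (i, j) l) = cprod α β l := fun l => by rw [cs, map_cprod, hψA, hψB]
  have hci : cprod α β i₀ ≠ 0 := fun h => hc0 (by rw [hcl, h, mul_zero])
  let s : ι := ⟨(i, j), i₀⟩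
  have hxs : ⊤ ≤ x ⁻¹ᵁ W s := by
    have hu1 : IsUnit (x.appLE (WW n (i, j)) ⊤ hxW (cs n (i, j) i₀)) := by
      have : IsUnit (ψ (cs n (i, j) i₀)) := by rw [hψc]; exact hci.isUnit
      have h2 := this.map (Scheme.ΓSpecIso (CommRingCat.of K)).inv.hom
      simp only [ψ, CommRingCat.hom_comp, RingHom.comp_apply] at h2
      rwa [Iso.hom_inv_id_apply] at h2
    have := Scheme.basicOpen_of_isUnit _ hu1
    rw [Scheme.Hom.appLE, CommRingCat.comp_apply, Scheme.basicOpen_res, ← Scheme.preimage_basicOpen] at this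
    exact this.ge.trans inf_le_right
  let xl : Spec (CommRingCat.of K) ⟶ (W s : Scheme.{u}) := IsOpenImmersion.lift (W s).ι x (by
    rw [Scheme.Opens.range_ι]
    rintro _ ⟨z, rfl⟩
    exact hxs trivial)
  have hxl : xl ≫ (W s).ι = x := IsOpenImmersion.lift_fac _ _ _
  let ψ' := (x.appLE (W s) ⊤ hxs ≫ (Scheme.ΓSpecIso (CommRingCat.of K)).hom).hom
  have key : x ≫ μ = g := by
    rw [hg, ← hxl, Category.assoc, hμ, chart, ← Category.assoc,
      lift_toSpecΓ ((Segre.isAffineOpen_W Z₀.{u} n 1 (i, j)).basicOpen (cs n (i, j) i₀)) x xl hxl hxs]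
    show _ ≫ PnConst7.point _ _ _ _ _ = _
    rw [show x.appLE (W s) ⊤ hxs ≫ (Scheme.ΓSpecIso (CommRingCat.of K)).hom = CommRingCat.ofHom ψ' from rfl,
      PnConst7.specMap_point]
    have e : ψ'.comp (MvPolynomial.eval₂Hom (const (k := Z₀.{u}) (PP.{u} n) (W s)) (a s)) =
        evalAt (cprod α β) := by
      refine MvPolynomial.ringHom_ext (fun t => ?_) fun l => ?_
      · rw [RingHom.comp_apply, MvPolynomial.eval₂Hom_C, MvPolynomial.eval₂Hom_C, ← RingHom.comp_apply,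
          hom_eq (ψ'.comp _)]
      · rw [RingHom.comp_apply, MvPolynomial.eval₂Hom_X', MvPolynomial.eval₂Hom_X', ← hψc]
        simp only [ψ', ψ, a, CommRingCat.hom_comp, RingHom.comp_apply, ← CommRingCat.comp_apply,
          Scheme.Hom.map_appLE]
        rfl
    rw [PnConst7.point_congr e]
    have huc' : IsUnit (evalAt (fun l => r * cprod α β l) (MvPolynomial.X i₀)) :=
      isUnit_eval_X _ _ _ ((mul_ne_zero hr hci).isUnit)
    rw [← point_smul (cprod α β) r hr.isUnit _ (X₁ Z₀.{u} (n + 1) i₀).2 one_pos _ huc']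
    exact PnConst7.point_congr (by rw [funext hcl]) _ _ _ _
  refine ⟨x (IsLocalRing.closedPoint K), ?_⟩
  rw [← Scheme.Hom.comp_apply, key]
  exact Scheme.fromSpecResidueField_apply y _

/-- The surjection over any base. -/
theorem exists_mu_over (S : Scheme.{u}) :
    ∃ μ : CohB1.ProjSpaceOver n (CohB1.ProjSpaceOver 1 S) ⟶ CohB1.ProjSpaceOver (n + 1) S,
      Surjective μ ∧ μ ≫ CohB1.ProjSpaceOver.toBase (n + 1) S =
        CohB1.ProjSpaceOver.toBase n _ ≫ CohB1.ProjSpaceOver.toBase 1 S := by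
  obtain ⟨μ, hμ⟩ := exists_mu.{u} n
  let a := CohB1.ProjSpace.toSpec n Z₀.{u}
  let b := CohB1.ProjSpace.toSpec 1 Z₀.{u}
  let L := CohB1.ProjSpaceOver 1 S
  let T := specULiftZIsTerminal.{u}.from L
  let e : CohB1.ProjSpaceOver n L ⟶ PP.{u} n :=
    pullback.lift (pullback.fst a T) (pullback.snd a T ≫ pullback.fst b (specULiftZIsTerminal.from S))
      (specULiftZIsTerminal.hom_ext _ _)
  let str := CohB1.ProjSpaceOver.toBase n L ≫ CohB1.ProjSpaceOver.toBase 1 S
  have h1 : IsPullback e (CohB1.ProjSpaceOver.toBase n L) (pullback.snd a b)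
      (pullback.fst b (specULiftZIsTerminal.from S)) := by
    refine IsPullback.of_right (h₁₂ := pullback.fst a b) (h₂₂ := b) (v₁₃ := a) ?_ (pullback.lift_snd _ _ _)
      (IsPullback.of_hasPullback a b)
    rw [show e ≫ pullback.fst a b = pullback.fst a T from pullback.lift_fst _ _ _,
      specULiftZIsTerminal.hom_ext (pullback.fst b (specULiftZIsTerminal.from S) ≫ b) T]
    exact IsPullback.of_hasPullback a T
  have h2 : IsPullback e str (pullback.snd a b ≫ b) (specULiftZIsTerminal.from S) :=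
    h1.paste_vert (IsPullback.of_hasPullback b (specULiftZIsTerminal.from S))
  let c := CohB1.ProjSpace.toSpec (n + 1) Z₀.{u}
  let μS : CohB1.ProjSpaceOver n L ⟶ CohB1.ProjSpaceOver (n + 1) S :=
    pullback.lift (e ≫ μ) str (specULiftZIsTerminal.hom_ext _ _)
  refine ⟨μS, ?_, pullback.lift_snd _ _ _⟩
  have h3 : IsPullback e μS μ (pullback.fst c (specULiftZIsTerminal.from S)) := by
    refine IsPullback.of_bot ?_ (pullback.lift_fst _ _ _).symm (IsPullback.of_hasPullback c _)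
    rw [show μS ≫ pullback.snd c (specULiftZIsTerminal.from S) = str from pullback.lift_snd _ _ _,
      specULiftZIsTerminal.hom_ext (μ ≫ c) (pullback.snd a b ≫ b)]
    exact h2
  exact MorphismProperty.of_isPullback (P := @Surjective) h3 hμ

end Groth.Agent.PBC51.ProjMu
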