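import Groth.Agent.PBC51.Van.Line
import Groth.Agent.PBC51.Van.ProjMu
import Groth.Agent.Approx60.ChowMain

/-!
Higher cohomology of acyclic torsion sheaves vanishes after strictly henselian base change, for
every proper morphism.
-/

set_option autoImplicit false
set_option backward.isDefEq.respectTransparency.types false
set_option linter.unusedSectionVars false
universe u

open CategoryTheory CategoryTheory.Limits AlgebraicGeometry Opposite

namespace Groth.Agent.PBC51.Van

instance isProper_toBase (n : ℕ) (Z : Scheme.{u}) : IsProper (CohB1.ProjSpaceOver.toBase n Z) :=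
  Approx60.Segre.isProper_toBase n Z

/-- Projective space of dimension zero is finite over the base. -/
theorem isFinite_toBase_zero (Z : Scheme.{u}) : IsFinite (CohB1.ProjSpaceOver.toBase 0 Z) := by
  have hU : Approx60.ProjCharts.U Z₀.{u} 0 0 = ⊤ := top_le_iff.1 fun x _ => by
    obtain ⟨j, hj⟩ := Approx60.ProjCharts.exists_mem_U Z₀.{u} 0 x
    obtain rfl : j = 0 := Subsingleton.elim (α := Fin 1) _ _
    exact hj
  have : IsAffine (CohB1.ProjSpace 0 Z₀.{u}) := by
    have h := Approx60.ProjCharts.isAffineOpen_U Z₀.{u} 0 0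
    rw [hU] at h
    have : IsAffine _ := h
    exact .of_isIso (Scheme.topIso (CohB1.ProjSpace 0 Z₀.{u})).inv
  have : IsProper (CohB1.ProjSpace.toSpec 0 Z₀.{u}) := Approx60.Segre.isProper_toSpec _ 0
  have : IsAffineHom (CohB1.ProjSpace.toSpec 0 Z₀.{u}) := inferInstance
  have : IsFinite (CohB1.ProjSpace.toSpec 0 Z₀.{u}) :=
    IsFinite.iff_isProper_and_isAffineHom.2 ⟨inferInstance, inferInstance⟩
  exact MorphismProperty.pullback_snd _ _ this

/-- Projective spaces over every base. -/
theorem good_projSpace (n : ℕ) : ∀ Z : Scheme.{u}, Good (CohB1.ProjSpaceOver.toBase n Z) := by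
  induction n with
  | zero => exact fun Z => @good_of_isFinite _ _ _ (isFinite_toBase_zero Z)
  | succ n ih =>
    intro Z
    obtain ⟨μ, hμs, hμ⟩ := ProjMu.exists_mu_over n Z
    let L := CohB1.ProjSpaceOver 1 Z
    let Z' := CohB1.ProjSpaceOver (n + 1) Z
    let L' := CohB1.ProjSpaceOver 1 Z'
    have hL := isPullback_projSpaceOver 1 (CohB1.ProjSpaceOver.toBase (n + 1) Z)
    let bL : L' ⟶ L := pullback.map (CohB1.ProjSpace.toSpec 1 Z₀.{u}) (specULiftZIsTerminal.from Z')
      (CohB1.ProjSpace.toSpec 1 Z₀.{u}) (specULiftZIsTerminal.from Z) (𝟙 _)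
      (CohB1.ProjSpaceOver.toBase (n + 1) Z) (𝟙 _) (by simp) (specULiftZIsTerminal.hom_ext _ _)
    have hW := isPullback_projSpaceOver n bL
    let bW : CohB1.ProjSpaceOver n L' ⟶ CohB1.ProjSpaceOver n L := pullback.map (CohB1.ProjSpace.toSpec n Z₀.{u}) (specULiftZIsTerminal.from L')
      (CohB1.ProjSpace.toSpec n Z₀.{u}) (specULiftZIsTerminal.from L) (𝟙 _) bL (𝟙 _) (by simp)
      (specULiftZIsTerminal.hom_ext _ _)
    let ιL : CohB1.ProjSpaceOver n L ⟶ L' := hL.lift (CohB1.ProjSpaceOver.toBase n L) μ hμ.symm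
    let ι : CohB1.ProjSpaceOver n L ⟶ CohB1.ProjSpaceOver n L' :=
      hW.lift (𝟙 _) ιL ((Category.id_comp _).trans (hL.lift_fst _ _ _).symm)
    have : IsSeparated bL := MorphismProperty.of_isPullback hL.flip inferInstance
    have : IsSeparated bW := MorphismProperty.of_isPullback hW.flip inferInstance
    have : IsClosedImmersion (ι ≫ bW) := by
      rw [show ι ≫ bW = 𝟙 _ from hW.lift_fst _ _ _]
      infer_instance
    have : IsClosedImmersion ι := IsClosedImmersion.of_comp ι bW
    have hμ' : ι ≫ CohB1.ProjSpaceOver.toBase n L' ≫ CohB1.ProjSpaceOver.toBase 1 Z' = μ := by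
      rw [← Category.assoc, show ι ≫ CohB1.ProjSpaceOver.toBase n L' = ιL from hW.lift_snd _ _ _]
      exact hL.lift_snd _ _ _
    have hgood : Good μ := hμ' ▸ good_comp ι _ (good_of_isFinite ι) (good_comp _ _ (ih L') (good_line Z'))
    have : IsProper μ := hμ' ▸ inferInstance
    exact good_of_surjective μ _ hgood (hμ ▸ good_comp _ _ (ih L) (good_line Z))

/-- Proper morphisms. -/
theorem good_of_isProper {X Y : Scheme.{u}} (f : X ⟶ Y) [IsProper f] : Good f := by
  refine good_of_local f fun y => ?_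
  obtain ⟨_, ⟨U, hU, rfl⟩, hyU, -⟩ :=
    Y.isBasis_affineOpens.exists_subset_of_mem_open (Set.mem_univ y) isOpen_univ
  refine ⟨U, hyU, ?_⟩
  have : IsAffine U := hU
  let f' := f ∣_ U
  have : IsProper f' := IsZariskiLocalAtTarget.restrict ‹IsProper f› U
  obtain ⟨N, X', π, j, hj, hjw, hπ, hπs⟩ := Approx60.Chow.chow_qcqs f'
  have : IsProper (j ≫ CohB1.ProjSpaceOver.toBase N (U : Scheme.{u})) := by rw [hjw]; infer_instance
  have : UniversallyClosed j := UniversallyClosed.of_comp_of_isSeparated j (CohB1.ProjSpaceOver.toBase N (U : Scheme.{u}))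
  have : IsClosedImmersion j := IsClosedImmersion.of_isPreimmersion j j.isClosedMap.isClosed_range
  have hb := isPullback_projSpaceOver N f'
  let b : CohB1.ProjSpaceOver N _ ⟶ CohB1.ProjSpaceOver N (U : Scheme.{u}) := pullback.map (CohB1.ProjSpace.toSpec N Z₀.{u}) (specULiftZIsTerminal.from _)
    (CohB1.ProjSpace.toSpec N Z₀.{u}) (specULiftZIsTerminal.from (U : Scheme.{u})) (𝟙 _) f' (𝟙 _) (by simp)
    (specULiftZIsTerminal.hom_ext _ _)
  let ι : X' ⟶ CohB1.ProjSpaceOver N _ := hb.lift j π hjw
  have : IsSeparated b := MorphismProperty.of_isPullback hb.flip inferInstance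
  have : IsClosedImmersion (ι ≫ b) := by rw [show ι ≫ b = j from hb.lift_fst _ _ _]; infer_instance
  have : IsClosedImmersion ι := IsClosedImmersion.of_comp ι b
  have hι : ι ≫ CohB1.ProjSpaceOver.toBase N _ = π := hb.lift_snd _ _ _
  refine good_of_surjective π f' (hι ▸ good_comp ι _ (good_of_isFinite ι) (good_projSpace N _)) ?_
  rw [← hjw]
  exact good_comp j _ (good_of_isFinite j) (good_projSpace N _)

end Groth.Agent.PBC51.Van
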